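import Mathlib

/-!
# The arithmetic of the mixed case
-/

set_option autoImplicit false

namespace Cfsg.Agent.Lib.AutOrbits5

/-- If `2 ^ n - 1` is a power of a prime and `n ≥ 2`, it is a prime. -/
theorem pow_eq_mersenne {q i n : ℕ} (hn : 2 ≤ n) (hq : Odd q) (e : q ^ i + 1 = 2 ^ n) : i = 1 := by
  have h4 : 4 ∣ 2 ^ n := (show (4 : ℕ) = 2 ^ 2 by norm_num) ▸ pow_dvd_pow 2 hn
  have hi : Odd i := by
    by_contra hi
    obtain ⟨j, hj⟩ := (Nat.not_odd_iff_even.1 hi)
    have h1 : q ^ i % 4 = 1 := by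
      rw [hj, ← two_mul, pow_mul, Nat.pow_mod]
      have h2 : q ^ 2 % 4 = 1 := by
        rw [Nat.pow_mod]
        have := Nat.odd_iff.1 hq
        have : q % 4 = 1 ∨ q % 4 = 3 := by omega
        rcases this with h | h <;> rw [h] <;> norm_num
      rw [h2, one_pow]
      norm_num
    omega
  have e1 := geom_sum_mul (-(q : ℤ)) i
  rw [hi.neg_pow] at e1
  set S := ∑ k ∈ Finset.range i, (-(q : ℤ)) ^ k with hS
  have e2 : S * ((q : ℤ) + 1) = (2 : ℤ) ^ n := by
    have e' : ((q : ℤ) ^ i + 1) = (2 : ℤ) ^ n := by exact_mod_cast e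
    rw [← e']
    linarith [e1]
  have hodd : Odd S := by
    have h1 : ((S : ℤ) : ZMod 2) = 1 := by
      rw [hS, Int.cast_sum]
      have hq1 : ((-(q : ℤ) : ℤ) : ZMod 2) = 1 := by
        push_cast
        rw [CharTwo.neg_eq]
        exact ZMod.natCast_eq_one_iff_odd.2 hq
      simp only [Int.cast_pow, hq1, one_pow, Finset.sum_const, Finset.card_range, nsmul_eq_mul, mul_one]
      exact ZMod.natCast_eq_one_iff_odd.2 hi
    exact ZMod.intCast_eq_one_iff_odd.1 h1
  have hS1 : S = 1 := by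
    have hd : S.natAbs ∣ 2 ^ n := by
      have := Int.natAbs_dvd_natAbs.2 (Dvd.intro _ e2)
      rwa [Int.natAbs_pow] at this
    have h1 : S.natAbs = 1 := by
      obtain ⟨t, -, ht⟩ := (Nat.dvd_prime_pow Nat.prime_two).1 hd
      rcases t.eq_zero_or_pos with rfl | hp
      · simpa using ht
      · exfalso
        have h2 : Odd S.natAbs := Int.natAbs_odd.2 hodd
        rw [ht] at h2
        exact Nat.not_even_iff_odd.2 h2 (even_two.pow_of_ne_zero hp.ne')
    rcases Int.natAbs_eq_iff.1 h1 with h | h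
    · exact h
    · exfalso
      rw [h] at e2
      have : (0 : ℤ) < 2 ^ n := pow_pos two_pos n
      push_cast at e2
      linarith [Int.natCast_nonneg q]
  rw [hS1, one_mul] at e2
  have e3 : q + 1 = 2 ^ n := by exact_mod_cast e2
  have hq2 : 2 ≤ q := by
    have : 4 ≤ 2 ^ n := Nat.le_of_dvd (pow_pos two_pos n) h4
    omega
  exact Nat.pow_right_injective hq2 (show q ^ i = q ^ 1 by rw [pow_one]; omega)

/-- The final equation has no solution. -/
theorem final_arith {n q a j γ R : ℕ} (hn : 3 ≤ n) (hq : q.Prime) (hqn : q + 1 = 2 ^ n)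
    (hR : 3 ≤ R) (e : (R * q ^ a - 1) * (2 * q ^ j) = 2 ^ n * q ^ γ * (R - 1)) : False := by
  have h8 : 8 ≤ 2 ^ n := (show (8 : ℕ) = 2 ^ 3 by norm_num) ▸ Nat.pow_le_pow_right two_pos hn
  have hqodd : Odd q := by
    rcases hq.eq_two_or_odd' with h | h
    · omega
    · exact h
  rcases a.eq_zero_or_pos with rfl | ha
  · rw [pow_zero, mul_one] at e
    have e' : 2 * q ^ j = 2 ^ n * q ^ γ := by
      refine Nat.eq_of_mul_eq_mul_left (show 0 < R - 1 by omega) ?_
      rw [e]; ring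
    have h4 : 4 ∣ 2 * q ^ j := e' ▸ Dvd.dvd.mul_right
      ((show (4 : ℕ) = 2 ^ 2 by norm_num) ▸ pow_dvd_pow 2 (by omega)) _
    have := Nat.odd_iff.1 (hqodd.pow (n := j))
    omega
  have hqa : q ≤ q ^ a := Nat.le_self_pow ha.ne' q
  have hRq : R * q ≤ R * q ^ a := Nat.mul_le_mul_left R hqa
  rcases Nat.lt_or_ge j γ with hlt | hge
  · have e' : (R * q ^ a - 1) * 2 = 2 ^ n * q ^ (γ - j) * (R - 1) := by
      refine Nat.eq_of_mul_eq_mul_right (pow_pos hq.pos j) ?_
      rw [mul_assoc, e, show γ = γ - j + j by omega, pow_add, show γ - j + j - j = γ - j by omega]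
      ring
    have hd : q ∣ (R * q ^ a - 1) * 2 := e' ▸ Dvd.dvd.mul_right
      (Dvd.dvd.mul_left (dvd_pow_self q (by omega)) _) _
    rcases hq.dvd_mul.1 hd with h1 | h1
    · have h2 : q ∣ R * q ^ a := Dvd.dvd.mul_left (dvd_pow_self q ha.ne') R
      have : q ∣ 1 := by
        have h3 := Nat.dvd_sub h2 h1
        have hpos : 1 ≤ R * q ^ a := Nat.mul_pos (by omega) (pow_pos hq.pos a)
        rwa [show R * q ^ a - (R * q ^ a - 1) = 1 by omega] at h3
      exact hq.ne_one (Nat.dvd_one.1 this)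
    · have := Nat.le_of_dvd two_pos h1
      omega
  · have e' : (R * q ^ a - 1) * (2 * q ^ (j - γ)) = 2 ^ n * (R - 1) := by
      refine Nat.eq_of_mul_eq_mul_right (pow_pos hq.pos γ) ?_
      rw [mul_assoc (2 ^ n), mul_comm (R - 1), ← mul_assoc (2 ^ n), ← e]
      conv_rhs => rw [show j = j - γ + γ by omega, pow_add]
      ring
    have h1 : (R * q ^ a - 1) * 2 ≤ 2 ^ n * (R - 1) :=
      e' ▸ Nat.mul_le_mul_left _ (Nat.le_mul_of_pos_right 2 (pow_pos hq.pos _))
    obtain ⟨R', rfl⟩ : ∃ R', R = R' + 1 := ⟨R - 1, by omega⟩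
    rw [Nat.add_sub_cancel, ← hqn] at h1
    have hexp : (R' + 1) * q = R' * q + q := by ring
    have hexp2 : (q + 1) * R' = R' * q + R' := by ring
    have : R' * 2 ≤ R' * q := Nat.mul_le_mul_left R' (by omega)
    omega

end Cfsg.Agent.Lib.AutOrbits5
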