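import Mathlib
import Cfsg.Agent.Lib.Involutions.Basic
import Cfsg.Agent.Lib.Induced.Burnside

/-!
# Groups with the element orders 1, 2, q, r, 2q, all elements of one order alike

`Mix G q r`: the element orders are among `1, 2, q, r, 2q` for odd primes `q ≠ r`, there are elements of
order `r` and `2q`, and any two elements of the same order are carried to one another by an automorphism.
-/

set_option autoImplicit false

namespace Cfsg.Agent.Lib.AutOrbits5

open Subgroup
open Cfsg.Agent.Lib.Involutions.Basic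

variable {G : Type*} [Group G]

/-- The hypotheses of the mixed case. -/
structure Mix (G : Type*) [Group G] (q r : ℕ) : Prop where
  hq : q.Prime
  hr : r.Prime
  hq2 : q ≠ 2
  hr2 : r ≠ 2
  hqr : q ≠ r
  ord : ∀ g : G, orderOf g = 1 ∨ orderOf g = 2 ∨ orderOf g = q ∨ orderOf g = r ∨ orderOf g = 2 * q
  homog : ∀ x y : G, orderOf x = orderOf y → ∃ φ : MulAut G, φ x = y
  wit2q : ∃ g : G, orderOf g = 2 * q
  witr : ∃ g : G, orderOf g = r

variable {q r : ℕ} (h : Mix G q r)
include h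

theorem Mix.cop2r : Nat.Coprime 2 r := (Nat.coprime_primes Nat.prime_two h.hr).2 h.hr2.symm

theorem Mix.cop2q : Nat.Coprime 2 q := (Nat.coprime_primes Nat.prime_two h.hq).2 h.hq2.symm

theorem Mix.odd_q : Odd q := h.hq.odd_of_ne_two h.hq2

theorem Mix.odd_r : Odd r := h.hr.odd_of_ne_two h.hr2

theorem Mix.three_le_q : 3 ≤ q := by have := h.hq.two_le; have := h.hq2; omega

theorem Mix.three_le_r : 3 ≤ r := by have := h.hr.two_le; have := h.hr2; omega

/-- An involution commutes with no element of order `r`. -/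
theorem Mix.no_two_r {t y : G} (ht : orderOf t = 2) (hy : orderOf y = r) (hc : Commute t y) : False := by
  have hcop : (orderOf t).Coprime (orderOf y) := by rw [ht, hy]; exact h.cop2r
  have h1 := hc.orderOf_mul_eq_mul_orderOf_of_coprime hcop
  rw [ht, hy] at h1
  have := h.three_le_r
  have := h.three_le_q
  rcases h.ord (t * y) with e | e | e | e | e <;> rw [h1] at e
  · omega
  · omega
  · exact h.hq2 ((Nat.prime_dvd_prime_iff_eq Nat.prime_two h.hq).1 ⟨r, e.symm⟩).symm
  · omega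
  · exact h.hqr (Nat.eq_of_mul_eq_mul_left two_pos e).symm

/-- Elements of orders `q` and `r` do not commute. -/
theorem Mix.no_q_r {x y : G} (hx : orderOf x = q) (hy : orderOf y = r) (hc : Commute x y) : False := by
  have hcop : (orderOf x).Coprime (orderOf y) := by
    rw [hx, hy]; exact (Nat.coprime_primes h.hq h.hr).2 h.hqr
  have h1 := hc.orderOf_mul_eq_mul_orderOf_of_coprime hcop
  rw [hx, hy] at h1
  have h2 : r ∣ orderOf (x * y) := ⟨q, by rw [h1, mul_comm]⟩
  have := h.three_le_r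
  have := h.three_le_q
  rcases h.ord (x * y) with e | e | e | e | e
  · rw [e] at h2; exact h.hr.ne_one (Nat.dvd_one.1 h2)
  · rw [e] at h2; exact h.hr2 ((Nat.prime_dvd_prime_iff_eq h.hr Nat.prime_two).1 h2)
  · rw [e] at h2; exact h.hqr ((Nat.prime_dvd_prime_iff_eq h.hr h.hq).1 h2).symm
  · rw [h1] at e; nlinarith
  · rw [h1] at e; exact h.hr2 (Nat.eq_of_mul_eq_mul_left h.hq.pos (e.trans (mul_comm 2 q)))

/-- The prime divisors of an element order. -/
theorem Mix.prime_cases {ℓ : ℕ} (hℓ : ℓ.Prime) {g : G} (hg : ℓ ∣ orderOf g) :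
    ℓ = 2 ∨ ℓ = q ∨ ℓ = r := by
  rcases h.ord g with e | e | e | e | e <;> rw [e] at hg
  · exact absurd (Nat.dvd_one.1 hg) hℓ.ne_one
  · exact Or.inl ((Nat.prime_dvd_prime_iff_eq hℓ Nat.prime_two).1 hg)
  · exact Or.inr (Or.inl ((Nat.prime_dvd_prime_iff_eq hℓ h.hq).1 hg))
  · exact Or.inr (Or.inr ((Nat.prime_dvd_prime_iff_eq hℓ h.hr).1 hg))
  · rcases hℓ.dvd_mul.1 hg with e' | e'
    · exact Or.inl ((Nat.prime_dvd_prime_iff_eq hℓ Nat.prime_two).1 e')
    · exact Or.inr (Or.inl ((Nat.prime_dvd_prime_iff_eq hℓ h.hq).1 e'))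

/-- The order of a nontrivial `r`-element is `r`. -/
theorem Mix.orderOf_rElem {g : G} {k : ℕ} (hg : orderOf g = r ^ k) (hne : g ≠ 1) : orderOf g = r := by
  have hk : k ≠ 0 := fun e => hne (orderOf_eq_one_iff.1 (by simpa [e] using hg))
  have hd : r ∣ orderOf g := hg ▸ dvd_pow_self r hk
  rcases h.ord g with e | e | e | e | e
  · exact absurd (orderOf_eq_one_iff.1 e) hne
  · rw [e] at hd; exact absurd ((Nat.prime_dvd_prime_iff_eq h.hr Nat.prime_two).1 hd) h.hr2
  · rw [e] at hd; exact absurd ((Nat.prime_dvd_prime_iff_eq h.hr h.hq).1 hd).symm h.hqr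
  · exact e
  · rw [e] at hd
    rcases h.hr.dvd_mul.1 hd with e' | e'
    · exact absurd ((Nat.prime_dvd_prime_iff_eq h.hr Nat.prime_two).1 e') h.hr2
    · exact absurd ((Nat.prime_dvd_prime_iff_eq h.hr h.hq).1 e').symm h.hqr

/-- A nontrivial `2`-element is an involution. -/
theorem Mix.orderOf_two_elem {g : G} {k : ℕ} (hg : orderOf g = 2 ^ k) (hne : g ≠ 1) : orderOf g = 2 := by
  have hk : k ≠ 0 := fun e => hne (orderOf_eq_one_iff.1 (by simpa [e] using hg))
  have hd : 2 ∣ orderOf g := hg ▸ dvd_pow_self 2 hk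
  rcases h.ord g with e | e | e | e | e
  · exact absurd (orderOf_eq_one_iff.1 e) hne
  · exact e
  · rw [e] at hd; exact absurd ((Nat.prime_dvd_prime_iff_eq Nat.prime_two h.hq).1 hd).symm h.hq2
  · rw [e] at hd; exact absurd ((Nat.prime_dvd_prime_iff_eq Nat.prime_two h.hr).1 hd).symm h.hr2
  · have : q ∣ 2 ^ k := ⟨2, by rw [← hg, e, mul_comm]⟩
    exact absurd ((Nat.prime_dvd_prime_iff_eq h.hq Nat.prime_two).1 (h.hq.dvd_of_dvd_pow this)) h.hq2

/-- Two-groups have exponent two. -/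
theorem Mix.sq_eq_one {S : Subgroup G} (hS : IsPGroup 2 S) {a : G} (ha : a ∈ S) : a * a = 1 := by
  by_cases h1 : a = 1
  · simp [h1]
  · obtain ⟨k, hk⟩ := (IsPGroup.iff_orderOf.1 hS) ⟨a, ha⟩
    rw [Subgroup.orderOf_mk] at hk
    exact invol_mul_self (h.orderOf_two_elem hk h1)

/-- A two-group is commutative. -/
theorem Mix.comm_two {S : Subgroup G} (hS : IsPGroup 2 S) {a b : G} (ha : a ∈ S) (hb : b ∈ S) :
    a * b = b * a := by
  have e := h.sq_eq_one hS (mul_mem ha hb)
  have ia : a⁻¹ = a := inv_eq_of_mul_eq_one_left (h.sq_eq_one hS ha)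
  have ib : b⁻¹ = b := inv_eq_of_mul_eq_one_left (h.sq_eq_one hS hb)
  rw [← inv_eq_of_mul_eq_one_left e, mul_inv_rev, ia, ib]

/-- Every element of order `q` commutes with an involution. -/
theorem Mix.exists_invol_commute {x : G} (hx : orderOf x = q) :
    ∃ t : G, orderOf t = 2 ∧ Commute t x := by
  obtain ⟨g, hg⟩ := h.wit2q
  have h1 : orderOf (g ^ q) = 2 := by
    rw [orderOf_pow' g h.hq.pos.ne', hg, Nat.gcd_mul_left_left, Nat.mul_div_cancel _ h.hq.pos]
  have h2 : orderOf (g ^ 2) = q := by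
    rw [orderOf_pow' g two_ne_zero, hg, Nat.gcd_mul_right_left, Nat.mul_div_cancel_left _ two_pos]
  obtain ⟨φ, hφ⟩ := h.homog _ x (h2.trans hx.symm)
  refine ⟨φ (g ^ q), ?_, hφ ▸ ((Commute.refl g).pow_pow q 2).map φ.toMonoidHom⟩
  rw [MulEquiv.orderOf_eq, h1]

/-- Every involution commutes with an element of order `q`. -/
theorem Mix.exists_q_commute {t : G} (ht : orderOf t = 2) :
    ∃ x : G, orderOf x = q ∧ Commute t x := by
  obtain ⟨g, hg⟩ := h.wit2q
  have h1 : orderOf (g ^ q) = 2 := by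
    rw [orderOf_pow' g h.hq.pos.ne', hg, Nat.gcd_mul_left_left, Nat.mul_div_cancel _ h.hq.pos]
  have h2 : orderOf (g ^ 2) = q := by
    rw [orderOf_pow' g two_ne_zero, hg, Nat.gcd_mul_right_left, Nat.mul_div_cancel_left _ two_pos]
  obtain ⟨φ, hφ⟩ := h.homog _ t (h1.trans ht.symm)
  refine ⟨φ (g ^ 2), ?_, hφ ▸ ((Commute.refl g).pow_pow q 2).map φ.toMonoidHom⟩
  rw [MulEquiv.orderOf_eq, h2]

theorem Mix.card_eq [Finite G] (H : Subgroup G) (hH : ∀ y ∈ H, orderOf y ≠ r) :
    ∃ a b : ℕ, Nat.card H = 2 ^ a * q ^ b := by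
  obtain ⟨a, m, hm, e⟩ := Nat.exists_eq_two_pow_mul_odd (n := Nat.card H) Nat.card_pos.ne'
  refine ⟨a, ?_⟩
  have hm0 : m ≠ 0 := hm.pos.ne'
  have key : ∀ d : ℕ, d.Prime → d ∣ m → d = q := by
    intro d hd hdm
    haveI := Fact.mk hd
    obtain ⟨y, hy⟩ := exists_prime_orderOf_dvd_card' (G := H) d (e ▸ hdm.mul_left _)
    rw [← Subgroup.orderOf_coe] at hy
    rcases h.prime_cases hd (dvd_of_eq hy.symm) with rfl | rfl | rfl
    · exact absurd (even_iff_two_dvd.2 hdm) (Nat.not_even_iff_odd.2 hm)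
    · rfl
    · exact absurd hy (hH y y.2)
  exact ⟨_, by rw [e, Nat.eq_prime_pow_of_unique_prime_dvd hm0 (fun {d} hd hdm => key d hd hdm)]⟩

/-- Involution centralisers have order `2^a q^b`. -/
theorem Mix.card_centralizer [Finite G] {t : G} (ht : orderOf t = 2) :
    ∃ a b : ℕ, Nat.card (centralizer ({t} : Set G)) = 2 ^ a * q ^ b :=
  h.card_eq _ fun y hy hyr => h.no_two_r ht hyr (mem_centralizer_singleton_iff.1 hy).symm

/-- Involution centralisers are solvable. -/
theorem Mix.solvable_centralizer [Finite G] {t : G} (ht : orderOf t = 2) :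
    Group.IsSolvable (centralizer ({t} : Set G)) := by
  obtain ⟨a, b, e⟩ := h.card_centralizer ht
  exact Induced.Burnside.isSolvable_of_card_eq 2 q a b Nat.prime_two h.hq e

omit h in
/-- An involution acting on an odd number of things fixes one. -/
theorem exists_fixed_of_odd {α : Type*} [Finite α] (f : α → α) (hf : ∀ a, f (f a) = a)
    (hodd : Odd (Nat.card α)) : ∃ a, f a = a := by
  classical
  haveI := Fintype.ofFinite α
  rw [Nat.card_eq_fintype_card] at hodd
  obtain ⟨a, ha⟩ := Equiv.Perm.exists_fixed_point_of_prime (p := 2) (n := 1)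
    (fun e => Nat.not_even_iff_odd.2 hodd (even_iff_two_dvd.2 e)) (σ := (⟨f, f, hf, hf⟩ : Equiv.Perm α))
    (Equiv.ext fun a => by simp [pow_two, hf])
  exact ⟨a, ha⟩

end Cfsg.Agent.Lib.AutOrbits5
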