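import Cfsg.Agent.Lib.AutOrbits5.RElements

/-!
# Counting the involutions outside the strongly embedded subgroup

An involution `u` outside `M` is placed in the fibre over `C(s * u)`, `s` a fixed involution of `M`.  The
fibres are permuted transitively by `C(s)`, so all have the same size.
-/

set_option autoImplicit false

namespace Cfsg.Agent.Lib.AutOrbits5

open Subgroup Cfsg
open Cfsg.Agent.Lib.Involutions.Basic
open Cfsg.Agent.Lib.Involutions

/-- The fibres of a map which are the cosets of a subgroup. -/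
theorem card_range_mul {K α : Type*} [Group K] (f : K → α) (D : Subgroup K)
    (hf : ∀ a b : K, f a = f b ↔ a⁻¹ * b ∈ D) :
    Nat.card (Set.range f) * Nat.card D = Nat.card K := by
  rw [Subgroup.card_eq_card_quotient_mul_card_subgroup D]
  congr 1
  let g : K ⧸ D → Set.range f := fun x => Quotient.liftOn' x (fun a => (⟨f a, a, rfl⟩ : Set.range f))
    fun a b hab => Subtype.ext ((hf a b).2 (QuotientGroup.leftRel_apply.1 hab))
  refine (Nat.card_congr (Equiv.ofBijective g ⟨?_, ?_⟩)).symm
  · intro x y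
    induction x using QuotientGroup.induction_on with
    | H a =>
      induction y using QuotientGroup.induction_on with
      | H b => exact fun e => QuotientGroup.eq.2 ((hf a b).1 (congrArg Subtype.val e))
  · rintro ⟨_, a, rfl⟩
    exact ⟨(a : K ⧸ D), rfl⟩

variable {G : Type*} [Group G]

theorem card_subgroupOf (H K : Subgroup G) : Nat.card (H.subgroupOf K) = Nat.card ↥(H ⊓ K) := by
  rw [← Subgroup.card_map_of_injective (f := K.subtype) K.subtype_injective,
    Subgroup.subgroupOf_map_subtype]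

/-- The conjugates of `s` under `K`. -/
theorem card_conj_mul (K : Subgroup G) (s : G) :
    Nat.card {t : G // ∃ k ∈ K, k * s * k⁻¹ = t} *
      Nat.card ↥(Subgroup.centralizer ({s} : Set G) ⊓ K) = Nat.card K := by
  rw [← card_subgroupOf, ← card_range_mul (fun k : K => (k : G) * s * (k : G)⁻¹)
    ((Subgroup.centralizer ({s} : Set G)).subgroupOf K) ?_]
  · congr 1
    exact Nat.card_congr (Equiv.subtypeEquivRight fun t => ⟨fun ⟨k, hk, e⟩ => ⟨⟨k, hk⟩, e⟩,
      fun ⟨k, e⟩ => ⟨k, k.2, e⟩⟩)
  · intro a b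
    rw [Subgroup.mem_subgroupOf, mem_centralizer_singleton_iff, Subgroup.coe_mul, Subgroup.coe_inv]
    constructor
    · intro e
      calc (a : G)⁻¹ * b * s = (a : G)⁻¹ * (b * s * (b : G)⁻¹) * b := by group
        _ = (a : G)⁻¹ * (a * s * (a : G)⁻¹) * b := by rw [e]
        _ = s * ((a : G)⁻¹ * b) := by group
    · intro e
      calc (a : G) * s * (a : G)⁻¹ = a * (s * ((a : G)⁻¹ * b)) * (b : G)⁻¹ := by group
        _ = a * ((a : G)⁻¹ * b * s) * (b : G)⁻¹ := by rw [e]
        _ = b * s * (b : G)⁻¹ := by group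

variable [Finite G] {q r : ℕ} (h : Mix G q r)
include h
variable {M : Subgroup G} (hSE : Cfsg.IsStronglyEmbedded M)

include hSE in
/-- The fibre over a centraliser `P`. -/
theorem Mix.card_fibre {s u₀ : G} (hs : orderOf s = 2) (hsM : s ∈ M) (hu₀ : orderOf u₀ = 2)
    (hu₀M : u₀ ∉ M) :
    Nat.card {u : G // (orderOf u = 2 ∧ u ∉ M) ∧
        Subgroup.centralizer ({s * u} : Set G) = Subgroup.centralizer ({s * u₀} : Set G)} =
      Nat.card ↥(Subgroup.centralizer ({s * u₀} : Set G)) -
        Nat.card ↥(Subgroup.centralizer ({s * u₀} : Set G) ⊓ M) := by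
  classical
  set P := Subgroup.centralizer ({s * u₀} : Set G) with hP
  have hz := h.orderOf_mul_eq_r hSE hs hsM hu₀ hu₀M
  have hinv : ∀ w ∈ P, s * w * s = w⁻¹ := fun w hw => h.invert_all hz hs
    (invert_mul (invol_mul_self hs) (invol_mul_self hu₀)) hw
  have e1 : {u : G // (orderOf u = 2 ∧ u ∉ M) ∧
      Subgroup.centralizer ({s * u} : Set G) = P} ≃ {w : P // (w : G) ∉ M} :=
    { toFun := fun u => ⟨⟨s * u.1, by
          have hh : s * u.1 ∈ Subgroup.centralizer ({s * u.1} : Set G) :=
            mem_centralizer_singleton_iff.2 rfl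
          rwa [u.2.2] at hh⟩,
        fun hm => u.2.1.2 (by simpa using mul_mem (inv_mem hsM) hm)⟩
      invFun := fun w => ⟨s * (w.1 : G), by
        have hw1 : (w.1 : G) ≠ 1 := fun e => w.2 (e ▸ one_mem M)
        have hsw : s * (w.1 : G) ∉ M := fun hm => w.2 (by simpa using mul_mem (inv_mem hsM) hm)
        refine ⟨⟨invol_iff.2 ⟨?_, fun e => hsw (e ▸ one_mem M)⟩, hsw⟩, ?_⟩
        · rw [← mul_assoc, hinv _ w.1.2, inv_mul_cancel]
        · rw [← mul_assoc, invol_mul_self hs, one_mul]
          exact h.centralizer_eq hSE hz w.1.2 hw1⟩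
      left_inv := fun u => Subtype.ext (by
        show s * (s * u.1) = u.1
        rw [← mul_assoc, invol_mul_self hs, one_mul])
      right_inv := fun w => Subtype.ext (Subtype.ext (by
        show s * (s * (w.1 : G)) = w.1
        rw [← mul_assoc, invol_mul_self hs, one_mul])) }
  rw [Nat.card_congr e1]
  have := Fintype.ofFinite P
  have e2 : Nat.card ↥(P ⊓ M) = Nat.card {w : P // (w : G) ∈ M} :=
    Nat.card_congr
      { toFun := fun x => ⟨⟨x.1, x.2.1⟩, x.2.2⟩
        invFun := fun x => ⟨x.1.1, x.1.2, x.2⟩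
        left_inv := fun _ => rfl
        right_inv := fun _ => rfl }
  rw [e2, Nat.card_eq_fintype_card, Nat.card_eq_fintype_card, Nat.card_eq_fintype_card]
  exact Fintype.card_subtype_compl _

include hSE in
/-- The centraliser of `s` permutes the fibres transitively. -/
theorem Mix.exists_conj_fibre {s u u' : G} (hs : orderOf s = 2) (hsM : s ∈ M) (hu : orderOf u = 2)
    (huM : u ∉ M) (hu' : orderOf u' = 2) (hu'M : u' ∉ M) :
    ∃ c ∈ Subgroup.centralizer ({s} : Set G), (Subgroup.centralizer ({s * u} : Set G)).map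
      (MulAut.conj c).toMonoidHom = Subgroup.centralizer ({s * u'} : Set G) := by
  haveI := Fact.mk h.hr
  set z := s * u with hzdef
  set z' := s * u' with hz'def
  have hz : orderOf z = r := h.orderOf_mul_eq_r hSE hs hsM hu huM
  have hz' : orderOf z' = r := h.orderOf_mul_eq_r hSE hs hsM hu' hu'M
  obtain ⟨P, hP⟩ := h.exists_sylow_eq hSE hz
  obtain ⟨P', hP'⟩ := h.exists_sylow_eq hSE hz'
  obtain ⟨g, hg⟩ := MulAction.exists_smul_eq G P P'
  have hgP : (Subgroup.centralizer ({z} : Set G)).map (MulAut.conj g).toMonoidHom =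
      Subgroup.centralizer ({z'} : Set G) := by
    rw [← hP, ← hP', ← hg, Sylow.coe_subgroup_smul]
    rfl
  have hss := invol_mul_self hs
  have hinv : ∀ w ∈ Subgroup.centralizer ({z'} : Set G), s * w * s = w⁻¹ := fun w hw =>
    h.invert_all hz' hs (invert_mul (invol_mul_self hs) (invol_mul_self hu')) hw
  obtain ⟨a, ha, haz⟩ : z' ∈ (Subgroup.centralizer ({z} : Set G)).map (MulAut.conj g).toMonoidHom :=
    hgP ▸ mem_centralizer_singleton_iff.2 rfl
  have haz' : g * a * g⁻¹ = z' := haz
  have hsa : s * a * s = a⁻¹ := h.invert_all hz hs (invert_mul hss (invol_mul_self hu)) ha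
  have hw : s * (g * s * g⁻¹) ∈ Subgroup.centralizer ({z'} : Set G) := by
    refine mem_centralizer_singleton_iff.2 ?_
    calc s * (g * s * g⁻¹) * z' = s * (g * (s * a * s) * g⁻¹) * (g * s * g⁻¹) := by
          rw [← haz']
          simp only [mul_assoc, inv_mul_cancel_left]
          rw [← mul_assoc s s, hss, one_mul]
      _ = s * z'⁻¹ * (g * s * g⁻¹) := by rw [hsa, ← haz']; group
      _ = s * (s * z' * s) * (g * s * g⁻¹) := by
          rw [hinv z' (mem_centralizer_singleton_iff.2 rfl)]
      _ = z' * (s * (g * s * g⁻¹)) := by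
          simp only [← mul_assoc, hss, one_mul]
  set w := s * (g * s * g⁻¹) with hwdef
  obtain ⟨k, hk⟩ := h.odd_r
  set y := w⁻¹ ^ (k + 1) with hydef
  have hy : y ∈ Subgroup.centralizer ({z'} : Set G) := pow_mem (inv_mem hw) _
  have hwr : w ^ r = 1 := by
    rcases h.centralizer_cases hz' hw with e | e
    · rw [e, one_pow]
    · rw [← e]; exact pow_orderOf_eq_one w
  have hy2 : y * y = w⁻¹ := by
    rw [hydef, ← pow_add, show k + 1 + (k + 1) = r + 1 by omega, pow_succ, inv_pow, hwr, inv_one,
      one_mul]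
  have hgs : g * s * g⁻¹ = y * s * y⁻¹ := by
    have e1 : g * s * g⁻¹ = s * w := by rw [hwdef, ← mul_assoc, hss, one_mul]
    have e2 : y * s = s * y⁻¹ := by
      rw [← hinv y hy]
      simp only [← mul_assoc, hss, one_mul]
    rw [e1, e2, mul_assoc, ← mul_inv_rev, hy2, inv_inv]
  refine ⟨y⁻¹ * g, mem_centralizer_singleton_iff.2 ?_, ?_⟩
  · calc y⁻¹ * g * s = y⁻¹ * (g * s * g⁻¹) * g := by group
      _ = y⁻¹ * (y * s * y⁻¹) * g := by rw [hgs]
      _ = s * (y⁻¹ * g) := by group
  · rw [map_mul]
    ext x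
    rw [Subgroup.mem_map_equiv]
    constructor
    · intro hx
      have : (MulAut.conj g) ((MulAut.conj (y⁻¹) * MulAut.conj g).symm x) ∈
          Subgroup.centralizer ({z'} : Set G) := hgP ▸ ⟨_, hx, rfl⟩
      have e : (MulAut.conj g) ((MulAut.conj (y⁻¹) * MulAut.conj g).symm x) = y * x * y⁻¹ := by
        rw [← map_mul]
        simp only [MulAut.conj_symm_apply, MulAut.conj_apply]
        group
      rw [e] at this
      simpa [mul_assoc] using mul_mem (mul_mem (inv_mem hy) this) hy
    · intro hx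
      have hx' : y * x * y⁻¹ ∈ Subgroup.centralizer ({z'} : Set G) := mul_mem (mul_mem hy hx) (inv_mem hy)
      rw [← hgP, Subgroup.mem_map_equiv] at hx'
      rw [← map_mul]
      simp only [MulAut.conj_symm_apply] at hx' ⊢
      convert hx' using 1
      group

include hSE in
/-- **The count.** -/
theorem Mix.count {s u₀ : G} (hs : orderOf s = 2) (hsM : s ∈ M) (hu₀ : orderOf u₀ = 2)
    (hu₀M : u₀ ∉ M) {P : Subgroup G} (hP : P = Subgroup.centralizer ({s * u₀} : Set G)) :
    ∃ m : ℕ, m * Nat.card ↥(Subgroup.centralizer ({s} : Set G)) = Nat.card M ∧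
      (M.index - 1) * m *
          Nat.card ↥(Subgroup.normalizer (P : Set G) ⊓ Subgroup.centralizer ({s} : Set G)) =
        Nat.card ↥(Subgroup.centralizer ({s} : Set G)) * (Nat.card P - Nat.card ↥(P ⊓ M)) := by
  classical
  subst hP
  have := Fintype.ofFinite G
  set Cs := Subgroup.centralizer ({s} : Set G) with hCs
  set P := Subgroup.centralizer ({s * u₀} : Set G) with hP
  set Out := {u : G // orderOf u = 2 ∧ u ∉ M}
  have hCsM : Cs ≤ M := StronglyEmbedded.centralizer_le hSE hs hsM
  -- the involutions of `M` and of `G`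
  have hM1 : Nat.card {t : G // orderOf t = 2 ∧ t ∈ M} * Nat.card Cs = Nat.card M := by
    have := card_conj_mul M s
    rw [inf_eq_left.2 hCsM] at this
    rw [← this]
    congr 1
    refine Nat.card_congr (Equiv.subtypeEquivRight fun t => ⟨fun ⟨ht, htM⟩ => ?_, ?_⟩)
    · exact ((StronglyEmbedded.isStronglyEmbedded_iff_fusion hSE.1 hSE.2.1).1 hSE).2 s hsM t htM hs ht
        (StronglyEmbedded.isConj_involutions hSE hs ht)
    · rintro ⟨k, hk, rfl⟩
      exact ⟨(orderOf_conj_eq k s).trans hs, mul_mem (mul_mem hk hsM) (inv_mem hk)⟩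
  have hG1 : Nat.card {t : G // orderOf t = 2} * Nat.card Cs = Nat.card G := by
    have := card_conj_mul (⊤ : Subgroup G) s
    rw [inf_top_eq, Subgroup.card_top] at this
    rw [← this]
    congr 1
    refine Nat.card_congr (Equiv.subtypeEquivRight fun t => ⟨fun ht => ?_, ?_⟩)
    · obtain ⟨g, hg⟩ := isConj_iff.1 (StronglyEmbedded.isConj_involutions hSE hs ht)
      exact ⟨g, Subgroup.mem_top _, hg⟩
    · rintro ⟨k, -, rfl⟩
      exact (orderOf_conj_eq k s).trans hs
  have hsplit : Nat.card {t : G // orderOf t = 2} =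
      Nat.card {t : G // orderOf t = 2 ∧ t ∈ M} + Nat.card Out := by
    simp only [Out, Nat.card_eq_fintype_card, Fintype.card_subtype, ← Finset.filter_filter]
    exact (Finset.card_filter_add_card_filter_not (· ∈ M)).symm
  -- the fibres
  set F : Out → Subgroup G := fun u => Subgroup.centralizer ({s * u.1} : Set G)
  set f : Cs → Subgroup G := fun c => P.map (MulAut.conj (c : G)).toMonoidHom with hf
  have hrange : Set.range F = Set.range f := by
    ext Q
    constructor
    · rintro ⟨u, rfl⟩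
      obtain ⟨c, hc, e⟩ := h.exists_conj_fibre hSE hs hsM hu₀ hu₀M u.2.1 u.2.2
      exact ⟨⟨c, hc⟩, e⟩
    · rintro ⟨c, rfl⟩
      have hcs : (c : G) * s = s * c := mem_centralizer_singleton_iff.1 c.2
      refine ⟨⟨c * u₀ * (c : G)⁻¹, (orderOf_conj_eq _ _).trans hu₀, fun hm => hu₀M (by
        simpa [mul_assoc] using mul_mem (mul_mem (inv_mem (hCsM c.2)) hm) (hCsM c.2))⟩, ?_⟩
      show Subgroup.centralizer ({s * ((c : G) * u₀ * (c : G)⁻¹)} : Set G) = f c
      rw [hf]
      ext x
      simp only [Subgroup.mem_map_equiv, MulAut.conj_symm_apply, hP, mem_centralizer_singleton_iff]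
      have e : s * ((c : G) * u₀ * (c : G)⁻¹) = c * (s * u₀) * (c : G)⁻¹ := by
        rw [← mul_assoc, ← mul_assoc, ← hcs]; group
      rw [e]
      constructor
      · intro hx
        calc (c : G)⁻¹ * x * c * (s * u₀) = (c : G)⁻¹ * (x * (c * (s * u₀) * (c : G)⁻¹)) * c := by group
          _ = (c : G)⁻¹ * (c * (s * u₀) * (c : G)⁻¹ * x) * c := by rw [hx]
          _ = s * u₀ * ((c : G)⁻¹ * x * c) := by group
      · intro hx
        calc x * (c * (s * u₀) * (c : G)⁻¹) = c * ((c : G)⁻¹ * x * c * (s * u₀)) * (c : G)⁻¹ := by group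
          _ = c * (s * u₀ * ((c : G)⁻¹ * x * c)) * (c : G)⁻¹ := by rw [hx]
          _ = c * (s * u₀) * (c : G)⁻¹ * x := by group
  have hfib : ∀ Q : Set.range F, Nat.card {u : Out // Set.rangeFactorization F u = Q} =
      Nat.card P - Nat.card ↥(P ⊓ M) := by
    rintro ⟨_, u₁, rfl⟩
    obtain ⟨c, hc, e⟩ := h.exists_conj_fibre hSE hs hsM hu₀ hu₀M u₁.2.1 u₁.2.2
    have e1 : {u : Out // Set.rangeFactorization F u = ⟨F u₁, u₁, rfl⟩} ≃
        {u : G // (orderOf u = 2 ∧ u ∉ M) ∧
          Subgroup.centralizer ({s * u} : Set G) = Subgroup.centralizer ({s * u₁.1} : Set G)} :=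
      { toFun := fun u => ⟨u.1.1, u.1.2, congrArg Subtype.val u.2⟩
        invFun := fun u => ⟨⟨u.1, u.2.1⟩, Subtype.ext u.2.2⟩
        left_inv := fun _ => rfl
        right_inv := fun _ => rfl }
    rw [Nat.card_congr e1, h.card_fibre hSE hs hsM u₁.2.1 u₁.2.2, ← e]
    have hinj : Function.Injective (MulAut.conj c).toMonoidHom := (MulAut.conj c).injective
    rw [Subgroup.card_map_of_injective hinj]
    have hMc : M.map (MulAut.conj c).toMonoidHom = M := by
      ext x
      rw [StronglyEmbedded.mem_conj_iff]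
      constructor
      · intro hx; simpa [mul_assoc] using mul_mem (mul_mem (hCsM hc) hx) (inv_mem (hCsM hc))
      · intro hx; exact mul_mem (mul_mem (inv_mem (hCsM hc)) hx) (hCsM hc)
    have e3 : Nat.card ↥((P ⊓ M).map (MulAut.conj c).toMonoidHom) = Nat.card ↥(P ⊓ M) :=
      Subgroup.card_map_of_injective hinj
    rw [Subgroup.map_inf _ _ _ hinj, hMc] at e3
    rw [e3]
  have hOut : Nat.card Out = Nat.card (Set.range F) * (Nat.card P - Nat.card ↥(P ⊓ M)) := by
    have := Fintype.ofFinite (Set.range F)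
    rw [← Nat.card_congr (Equiv.sigmaFiberEquiv (Set.rangeFactorization F)), Nat.card_sigma,
      Finset.sum_congr rfl fun Q _ => hfib Q, Finset.sum_const, Finset.card_univ, smul_eq_mul,
      ← Nat.card_eq_fintype_card]
  have hstab : Nat.card (Set.range f) *
      Nat.card ↥(Subgroup.normalizer (P : Set G) ⊓ Cs) = Nat.card Cs := by
    rw [← card_subgroupOf]
    refine card_range_mul f _ fun a b => ?_
    rw [Subgroup.mem_subgroupOf, Subgroup.mem_normalizer_iff, hf]
    simp only [Subgroup.coe_mul, Subgroup.coe_inv]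
    constructor
    · intro e x
      have e' := SetLike.ext_iff.1 e ((b : G) * x * (b : G)⁻¹)
      simp only [Subgroup.mem_map_equiv, MulAut.conj_symm_apply] at e'
      have a1 : (b : G)⁻¹ * (b * x * (b : G)⁻¹) * b = x := by group
      rw [a1] at e'
      rw [← e']
      exact iff_of_eq (congrArg (· ∈ P) (by group))
    · intro e
      ext x
      simp only [Subgroup.mem_map_equiv, MulAut.conj_symm_apply]
      rw [e ((b : G)⁻¹ * x * b)]
      exact iff_of_eq (congrArg (· ∈ P) (by group))
  refine ⟨_, hM1, ?_⟩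
  set m := Nat.card {t : G // orderOf t = 2 ∧ t ∈ M}
  set c := Nat.card Cs with hc
  have hc0 : 0 < c := Nat.card_pos
  have hN : Nat.card {t : G // orderOf t = 2} = M.index * m := by
    refine Nat.eq_of_mul_eq_mul_right hc0 ?_
    rw [hG1, mul_assoc, hM1, mul_comm, Subgroup.card_mul_index]
  have hO : (M.index - 1) * m = Nat.card Out := by
    rw [Nat.sub_mul, one_mul]; omega
  rw [hO, hOut, hrange, mul_right_comm, hstab, mul_comm]

end Cfsg.Agent.Lib.AutOrbits5
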