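import Cfsg.Agent.Lib.AutOrbits5.Basic
import Cfsg.Agent.Lib.Signalizer.Complete
import Cfsg.Agent.Lib.Balance.Functor
import Cfsg.Agent.Lib.Involutions.StronglyEmbedded
import Cfsg.Agent.Lib.SylowInter.Basic
import Cfsg.Agent.Lib.PSolvable.HallHigman

/-!
# The mixed case has a strongly embedded subgroup

The cores of the involution centralisers form a solvable signalizer functor on a Sylow `2`-subgroup;
the normaliser of its closure (or of the Sylow subgroup, if the closure is trivial) is strongly embedded.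
-/

set_option autoImplicit false

namespace Cfsg.Agent.Lib.AutOrbits5

open Subgroup Cfsg
open Cfsg.Agent.Lib.Involutions.Basic
open Cfsg.Agent.Lib.Involutions

variable {G : Type*} [Group G] [Finite G] {q r : ℕ}

/-- A Sylow subgroup contains every normal `p`-subgroup. -/
theorem pCore_le_sylow {p : ℕ} (P : Sylow p G) : Cfsg.pCore p G ≤ (P : Subgroup G) :=
  sSup_le fun N hN => by
    haveI := hN.1
    exact le_sup_left.trans (P.3 (hN.2.to_sup_of_normal_left P.2) le_sup_right).le

/-- In a solvable group an abelian Sylow `2`-subgroup becomes normal modulo the core, so the group is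
generated by the core and the normaliser of the Sylow subgroup. -/
theorem le_normalizer_sup_core {H : Type*} [Group H] [Finite H] [Group.IsSolvable H] (S : Sylow 2 H)
    (hS : ∀ a ∈ (S : Subgroup H), ∀ b ∈ (S : Subgroup H), a * b = b * a) :
    Subgroup.normalizer ((S : Subgroup H) : Set H) ⊔ pPrimeCore 2 H = ⊤ := by
  haveI : Fact (Nat.Prime 2) := ⟨Nat.prime_two⟩
  set K := pPrimeCore 2 H with hK
  haveI : K.Normal := hK ▸ (pPrimeCore 2 H).normal_of_characteristic
  set π := QuotientGroup.mk' K with hπ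
  haveI : Group.IsSolvable (H ⧸ K) :=
    Group.isSolvable_of_surjective (QuotientGroup.mk'_surjective K)
  set T := S.mapSurjective (QuotientGroup.mk'_surjective K) with hT
  have hTmem : ∀ x : H ⧸ K, x ∈ (T : Subgroup (H ⧸ K)) ↔ x ∈ (S : Subgroup H).map π := by
    intro x; rw [hT, Sylow.coe_mapSurjective, hπ]
  have hle : (T : Subgroup (H ⧸ K)) ≤ Cfsg.pCore 2 (H ⧸ K) := by
    intro x hx
    refine SylowInter.Basic.centralizer_pCore_le 2 (PSolvable.pPrimeCore_quotient_eq_bot K hK)
      (Subgroup.mem_centralizer_iff.2 fun y hy => ?_)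
    obtain ⟨a, ha, rfl⟩ := Subgroup.mem_map.1 ((hTmem x).1 hx)
    obtain ⟨b, hb, rfl⟩ := Subgroup.mem_map.1 ((hTmem y).1 (pCore_le_sylow T hy))
    rw [← map_mul, ← map_mul, hS b hb a ha]
  have hTn : ((S : Subgroup H).map π).Normal := by
    have e : (S : Subgroup H).map π = Cfsg.pCore 2 (H ⧸ K) :=
      le_antisymm (fun x hx => hle ((hTmem x).2 hx)) fun x hx => (hTmem x).1 (pCore_le_sylow T hx)
    rw [e]
    exact (Cfsg.pCore 2 (H ⧸ K)).normal_of_characteristic
  set N := (S : Subgroup H) ⊔ K with hN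
  haveI : N.Normal := by
    have e : N = ((S : Subgroup H).map π).comap π := by
      rw [Subgroup.comap_map_eq, hπ, QuotientGroup.ker_mk']
    rw [e]
    exact hTn.comap π
  have hfr := Sylow.normalizer_sup_eq_top (S.subtype (le_sup_left : (S : Subgroup H) ≤ N))
  rw [Sylow.coe_subtype, Subgroup.subgroupOf_map_subtype, inf_eq_left.2 le_sup_left] at hfr
  rw [eq_top_iff, ← hfr]
  exact sup_le le_sup_left (sup_le (Subgroup.le_normalizer.trans le_sup_left) le_sup_right)

variable (h : Mix G q r)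
include h

/-- The cores of the involution centralisers form a solvable signalizer functor. -/
theorem Mix.functor {A : Subgroup G} (hA : IsPGroup 2 A) :
    IsSolvableSignalizerFunctor 2 A (centralizerPPrimeCore 2) := by
  haveI : Fact (Nat.Prime 2) := ⟨Nat.prime_two⟩
  have hord : ∀ a ∈ A, a ≠ 1 → orderOf a = 2 := fun a ha ha1 =>
    invol_iff.2 ⟨h.sq_eq_one hA ha, ha1⟩
  refine ⟨⟨fun a _ _ => Balance.centralizerPPrimeCore_le a,
    fun a _ _ => Balance.not_dvd_card_centralizerPPrimeCore a,
    fun a ha _ b hb x hx => ?_, fun a ha ha1 b hb hb1 => ?_⟩, fun a ha ha1 => ?_⟩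
  · exact (Subgroup.mem_normalizer_iff.1 (Balance.centralizer_le_normalizer_centralizerPPrimeCore a
      (mem_centralizer_singleton_iff.2 (h.comm_two hA hb ha))) x).1 hx
  · haveI := h.solvable_centralizer (hord b hb hb1)
    exact Balance.balance_of_pLayer_eq_bot (hord a ha ha1) (h.comm_two hA ha hb)
      Balance.pLayer_eq_bot_of_isSolvable
  · haveI := h.solvable_centralizer (hord a ha ha1)
    exact Group.isSolvable_of_isSolvable_injective
      (Subgroup.inclusion_injective (Balance.centralizerPPrimeCore_le (p := 2) a))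

/-- The shape of the strongly embedded subgroup. -/
structure Emb (G : Type*) [Group G] [Finite G] (S : Sylow 2 G) (M : Subgroup G) : Prop where
  se : Cfsg.IsStronglyEmbedded M
  le : (S : Subgroup G) ≤ M
  normalizer_le : Subgroup.normalizer ((S : Subgroup G) : Set G) ≤ M
  shape : M = Subgroup.normalizer ((S : Subgroup G) : Set G) ∨
    ∃ W : Subgroup G, W ≠ ⊥ ∧ ¬ 2 ∣ Nat.card W ∧ M = Subgroup.normalizer (W : Set G)

/-- **The strongly embedded subgroup.** -/
theorem Mix.exists_emb [IsSimpleGroup G] (S : Sylow 2 G) (h8 : 8 ≤ Nat.card (S : Subgroup G)) :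
    ∃ M : Subgroup G, Emb G S M := by
  classical
  haveI : Fact (Nat.Prime 2) := ⟨Nat.prime_two⟩
  set A := (S : Subgroup G) with hAdef
  have hA2 : IsPGroup 2 A := S.2
  have hord : ∀ a ∈ A, a ≠ 1 → orderOf a = 2 := fun a ha ha1 =>
    invol_iff.2 ⟨h.sq_eq_one hA2 ha, ha1⟩
  have hcomm : IsMulCommutative A :=
    ⟨⟨fun a b => Subtype.ext (h.comm_two hA2 a.2 b.2)⟩⟩
  have hel : IsElementaryAbelian 2 A := ⟨hcomm, fun a ha => by rw [pow_two]; exact h.sq_eq_one hA2 ha⟩
  have hθ := h.functor hA2
  set θ : G → Subgroup G := centralizerPPrimeCore 2 with hθdef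
  have h8' : 2 ^ 3 ≤ Nat.card A := h8
  obtain ⟨hWf, hWc⟩ := (Signalizer.completes_two hel h8' hθ).closure hel h8' hθ.1
  set W := signalizerClosure A θ with hW
  have heq : Even (Nat.card A) := by
    obtain ⟨n, hn⟩ := IsPGroup.iff_card.1 hA2
    rcases n.eq_zero_or_pos with rfl | hpos
    · rw [hn] at h8; norm_num at h8
    · rw [hn]; exact even_two.pow_of_ne_zero hpos.ne'
  have hGeven : Even (Nat.card G) :=
    even_iff_two_dvd.2 ((even_iff_two_dvd.1 heq).trans (Subgroup.card_subgroup_dvd_card A))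
  have hNW : Subgroup.normalizer (A : Set G) ≤ Subgroup.normalizer (W : Set G) := by
    intro g hg
    have key : ∀ g' ∈ Subgroup.normalizer (A : Set G), ∀ x ∈ W, g' * x * g'⁻¹ ∈ W := by
      intro g' hg' x hx
      have hle : W.map (MulAut.conj g').toMonoidHom ≤ W := by
        rw [hW, signalizerClosure, Subgroup.map_iSup]
        refine iSup_le fun a => ?_
        rw [hθdef, ← Balance.centralizerPPrimeCore_conj]
        exact le_iSup_of_le ⟨g' * a * g'⁻¹, (Subgroup.mem_normalizer_iff.1 hg' _).1 a.2.1,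
          fun e => a.2.2 (conj_eq_one_iff.1 e)⟩ le_rfl
      exact hle ⟨x, hx, rfl⟩
    refine Subgroup.mem_normalizer_iff.2 fun x => ⟨fun hx => key g hg x hx, fun hx => ?_⟩
    have := key g⁻¹ (inv_mem hg) _ hx
    simpa [mul_assoc] using this
  set M := if W = ⊥ then Subgroup.normalizer (A : Set G) else Subgroup.normalizer (W : Set G) with hM
  have hNM : Subgroup.normalizer (A : Set G) ≤ M := by
    rw [hM]; split_ifs
    · exact le_rfl
    · exact hNW
  have hWM : W ≤ M := by
    rw [hM]; split_ifs with hb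
    · rw [hb]; exact bot_le
    · exact Subgroup.le_normalizer
  have hAM : A ≤ M := Subgroup.le_normalizer.trans hNM
  have hMeven : Even (Nat.card M) :=
    even_iff_two_dvd.2 ((even_iff_two_dvd.1 heq).trans (Subgroup.card_dvd_of_le hAM))
  have hMtop : M ≠ ⊤ := by
    intro ht
    rw [hM] at ht
    split_ifs at ht with hb
    · have hAn : A.Normal := Subgroup.normalizer_eq_top_iff.1 ht
      rcases hAn.eq_bot_or_eq_top with e | e
      · rw [e, Subgroup.card_bot] at h8; omega
      · obtain ⟨g, hg⟩ := h.wit2q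
        have hgA : g ∈ A := e ▸ Subgroup.mem_top g
        have hd : orderOf g ∣ 2 := orderOf_dvd_of_pow_eq_one (by rw [pow_two]; exact h.sq_eq_one hA2 hgA)
        rw [hg] at hd
        have := Nat.le_of_dvd two_pos hd
        have := h.three_le_q
        omega
    · have hWn : W.Normal := Subgroup.normalizer_eq_top_iff.1 ht
      rcases hWn.eq_bot_or_eq_top with e | e
      · exact hb e
      · exact hWf.2.1 (by rw [e, Subgroup.card_top]; exact even_iff_two_dvd.1 hGeven)
  -- centralisers of involutions of `S`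
  have hC : ∀ t ∈ A, t ≠ 1 → Subgroup.centralizer ({t} : Set G) ≤ M := by
    intro t ht ht1
    haveI := h.solvable_centralizer (hord t ht ht1)
    have hAC : A ≤ Subgroup.centralizer ({t} : Set G) := fun a ha =>
      mem_centralizer_singleton_iff.2 (h.comm_two hA2 ha ht)
    set SH := S.subtype hAC with hSH
    have hSHc : ∀ a ∈ (SH : Subgroup ↥(Subgroup.centralizer ({t} : Set G))), ∀ b ∈ (SH : Subgroup ↥(Subgroup.centralizer ({t} : Set G))), a * b = b * a := fun a ha b hb =>
      Subtype.ext (h.comm_two hA2 (by simpa [hSH, Subgroup.mem_subgroupOf] using ha)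
        (by simpa [hSH, Subgroup.mem_subgroupOf] using hb))
    have htop := le_normalizer_sup_core SH hSHc
    intro c hc
    have hmem : (⟨c, hc⟩ : Subgroup.centralizer ({t} : Set G)) ∈
        M.subgroupOf (Subgroup.centralizer ({t} : Set G)) := by
      refine (sup_le ?_ ?_ : Subgroup.normalizer ((SH : Subgroup ↥(Subgroup.centralizer ({t} : Set G))) : Set ↥(Subgroup.centralizer ({t} : Set G))) ⊔
        pPrimeCore 2 ↥(Subgroup.centralizer ({t} : Set G)) ≤ M.subgroupOf _) (htop ▸ Subgroup.mem_top _)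
      · intro n hn
        refine Subgroup.mem_subgroupOf.2 (hNM (Subgroup.mem_normalizer_iff.2 fun x => ⟨fun hx => ?_, fun hx => ?_⟩))
        · have := (Subgroup.mem_normalizer_iff.1 hn ⟨x, hAC hx⟩).1
            (by simpa [hSH, Subgroup.mem_subgroupOf] using hx)
          simpa [hSH, Subgroup.mem_subgroupOf] using this
        · have hxC : x ∈ Subgroup.centralizer ({t} : Set G) := by
            have := mul_mem (mul_mem (inv_mem n.2) (hAC hx)) n.2
            simpa [mul_assoc] using this
          have := (Subgroup.mem_normalizer_iff.1 hn ⟨x, hxC⟩).2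
            (by simpa [hSH, Subgroup.mem_subgroupOf] using hx)
          simpa [hSH, Subgroup.mem_subgroupOf] using this
      · intro k hk
        have hkθ : (k : G) ∈ θ t := ⟨k, hk, rfl⟩
        exact Subgroup.mem_subgroupOf.2 (hWM (by rw [← hWc t ht ht1] at hkθ; exact hkθ.1))
    exact Subgroup.mem_subgroupOf.1 hmem
  -- moving an involution of `M` into `S`
  have hmove : ∀ t ∈ M, orderOf t = 2 → ∃ m ∈ M, m * t * m⁻¹ ∈ A := by
    intro t htM ht
    have hpg : IsPGroup 2 (Subgroup.zpowers t) :=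
      IsPGroup.of_card (n := 1) (by rw [Nat.card_zpowers, ht, pow_one])
    obtain ⟨m, hm, hle⟩ := StronglyEmbedded.exists_conj_le_sylow (S.subtype hAM) hpg
      (Subgroup.zpowers_le.2 htM)
    refine ⟨m, hm, ?_⟩
    have := hle ⟨t, Subgroup.mem_zpowers t, rfl⟩
    rwa [Sylow.coe_subtype, Subgroup.subgroupOf_map_subtype, inf_eq_left.2 hAM] at this
  have hCM : ∀ t ∈ M, orderOf t = 2 → Subgroup.centralizer ({t} : Set G) ≤ M := by
    intro t htM ht c hc
    obtain ⟨m, hm, hmt⟩ := hmove t htM ht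
    have hc' : m * c * m⁻¹ ∈ Subgroup.centralizer ({m * t * m⁻¹} : Set G) := by
      rw [mem_centralizer_singleton_iff] at hc ⊢
      calc m * c * m⁻¹ * (m * t * m⁻¹) = m * (c * t) * m⁻¹ := by group
        _ = m * (t * c) * m⁻¹ := by rw [hc]
        _ = m * t * m⁻¹ * (m * c * m⁻¹) := by group
    have := hC _ hmt (invol_ne_one ((orderOf_conj_eq m t).trans ht)) hc'
    simpa [mul_assoc] using mul_mem (mul_mem (inv_mem hm) this) hm
  refine ⟨M, ⟨(StronglyEmbedded.isStronglyEmbedded_iff_fusion hMtop hMeven).2 ⟨hCM, ?_⟩, hAM, hNM, ?_⟩⟩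
  · intro t htM s hsM ht hs htc
    obtain ⟨m, hm, hmt⟩ := hmove t htM ht
    obtain ⟨k, hk, hks⟩ := hmove s hsM hs
    obtain ⟨g, hg⟩ := isConj_iff.1 htc
    haveI := hcomm
    have e : (m * g⁻¹ * k⁻¹)⁻¹ * (m * t * m⁻¹) * (m * g⁻¹ * k⁻¹) = k * s * k⁻¹ := by
      rw [← hg]; group
    obtain ⟨n, hn, hne⟩ := Sylow.conj_eq_normalizer_conj_of_mem S (m * t * m⁻¹) (m * g⁻¹ * k⁻¹) hmt
      (by rw [e]; exact hks)
    rw [e] at hne
    refine ⟨k⁻¹ * n⁻¹ * m, mul_mem (mul_mem (inv_mem hk) (inv_mem (hNM hn))) hm, ?_⟩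
    calc k⁻¹ * n⁻¹ * m * t * (k⁻¹ * n⁻¹ * m)⁻¹ = k⁻¹ * (n⁻¹ * (m * t * m⁻¹) * n) * k := by group
      _ = s := by rw [← hne]; group
  · by_cases hb : W = ⊥
    · left; rw [hM, if_pos hb]
    · exact Or.inr ⟨W, hb, hWf.2.1, by rw [hM, if_neg hb]⟩

end Cfsg.Agent.Lib.AutOrbits5
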