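import Mathlib

/-!
# A Frobenius group acting with a fixed point free complement
-/

set_option autoImplicit false

namespace Cfsg.Agent.Lib.AutOrbits5

/-- Let `y`, of order dividing `r`, act fixed point freely on the abelian group `A` and on the abelian group
`V`.  If `A` has order prime to that of `V`, then `A` acts trivially on `V`. -/
theorem fixed_of_frobenius {H V : Type*} [Group H] [Group V] [Finite V]
    (hV : ∀ v w : V, v * w = w * v) (ρ : H →* MulAut V) (A : Subgroup H) [Finite A]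
    (hA : ∀ a ∈ A, ∀ b ∈ A, a * b = b * a) (y : H) {r : ℕ} (hy : y ^ r = 1)
    (hyA : ∀ a ∈ A, y * a * y⁻¹ ∈ A)
    (hfA : ∀ i, 0 < i → i < r → ∀ a ∈ A, y ^ i * a = a * y ^ i → a = 1)
    (hfV : ∀ v : V, ρ y v = v → v = 1) (hr : 0 < r)
    (hcop : (Nat.card V).Coprime (Nat.card A)) :
    ∀ a ∈ A, ∀ v : V, ρ a v = v := by
  classical
  letI : CommGroup V := { ‹Group V› with mul_comm := hV }
  have := Fintype.ofFinite A
  -- conjugation by powers of `y` keeps `A`
  have hyiA : ∀ i : ℕ, ∀ a ∈ A, y ^ i * a * (y ^ i)⁻¹ ∈ A := by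
    intro i
    induction i with
    | zero => intro a ha; simpa using ha
    | succ i ih =>
      intro a ha
      have := hyA _ (ih a ha)
      simpa [pow_succ', mul_assoc, mul_inv_rev] using this
  -- the sum over the powers of `y` vanishes
  have hsum : ∀ v : V, ∏ i ∈ Finset.range r, ρ (y ^ i) v = 1 := by
    intro v
    refine hfV _ ?_
    rw [map_prod]
    have e1 : ∀ i, ρ y (ρ (y ^ i) v) = ρ (y ^ (i + 1)) v := fun i => by
      rw [pow_succ', map_mul]; rfl
    simp only [e1]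
    obtain ⟨k, rfl⟩ : ∃ k, r = k + 1 := ⟨r - 1, by omega⟩
    rw [Finset.prod_range_succ, Finset.prod_range_succ' (fun i => ρ (y ^ i) v), hy, pow_zero]
  set T : V → V := fun v => ∏ a : A, ρ (a : H) v with hT
  have hTfix : ∀ a ∈ A, ∀ v, ρ a (T v) = T v := by
    intro a ha v
    rw [hT, map_prod]
    exact Fintype.prod_equiv (Equiv.mulLeft (⟨a, ha⟩ : A)) _ _ fun b => by
      rw [Equiv.coe_mulLeft, Subgroup.coe_mul, map_mul]; rfl
  have key : ∀ v : V, ∀ i ∈ Finset.range r, i ≠ 0 →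
      ∏ b : A, ρ ((b : H) * y ^ i * (b : H)⁻¹) v = T (ρ (y ^ i) v) := by
    intro v i hi hi0
    have hi' := Finset.mem_range.1 hi
    let f : A → A := fun b => ⟨(b : H) * (y ^ i * (b : H)⁻¹ * (y ^ i)⁻¹),
      mul_mem b.2 (hyiA i _ (inv_mem b.2))⟩
    have hf : Function.Injective f := by
      intro b b' e
      have e' : (b : H) * (y ^ i * (b : H)⁻¹ * (y ^ i)⁻¹) =
          (b' : H) * (y ^ i * (b' : H)⁻¹ * (y ^ i)⁻¹) := congrArg Subtype.val e
      have hd : y ^ i * ((b' : H)⁻¹ * b) = (b' : H)⁻¹ * b * y ^ i := by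
        rw [hA _ (inv_mem b'.2) _ b.2]
        calc y ^ i * ((b : H) * (b' : H)⁻¹)
            = y ^ i * (b : H) * (y ^ i)⁻¹ * (b' : H)⁻¹ *
              ((b' : H) * (y ^ i * (b' : H)⁻¹ * (y ^ i)⁻¹)) * y ^ i := by group
          _ = y ^ i * (b : H) * (y ^ i)⁻¹ * (b' : H)⁻¹ *
              ((b : H) * (y ^ i * (b : H)⁻¹ * (y ^ i)⁻¹)) * y ^ i := by rw [e']
          _ = y ^ i * (b : H) * (y ^ i)⁻¹ * ((b : H) * (b' : H)⁻¹) *
              (y ^ i * (b : H)⁻¹ * (y ^ i)⁻¹) * y ^ i := by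
            rw [hA _ b.2 _ (inv_mem b'.2)]; group
          _ = y ^ i * (b : H) * (y ^ i)⁻¹ * ((y ^ i * (b : H)⁻¹ * (y ^ i)⁻¹) *
              ((b : H) * (b' : H)⁻¹)) * y ^ i := by
            rw [mul_assoc (y ^ i * (b : H) * (y ^ i)⁻¹) ((b : H) * (b' : H)⁻¹),
              hA _ (mul_mem b.2 (inv_mem b'.2)) _ (hyiA i _ (inv_mem b.2))]
          _ = (b : H) * (b' : H)⁻¹ * y ^ i := by group
      have := hfA i (Nat.pos_of_ne_zero hi0) hi' _ (mul_mem (inv_mem b'.2) b.2) hd
      exact Subtype.ext (inv_mul_eq_one.1 this).symm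
    rw [hT]
    refine Fintype.prod_equiv (Equiv.ofBijective f (Finite.injective_iff_bijective.1 hf)) _ _ fun b => ?_
    show ρ ((b : H) * y ^ i * (b : H)⁻¹) v =
      ρ ((b : H) * (y ^ i * (b : H)⁻¹ * (y ^ i)⁻¹)) (ρ (y ^ i) v)
    rw [← MulAut.mul_apply, ← map_mul]
    congr 2
    group
  intro a ha v
  have hpow : T v = v ^ Nat.card A := by
    have h1 : ∏ i ∈ Finset.range r, ∏ b : A, ρ ((b : H) * y ^ i * (b : H)⁻¹) v = 1 := by
      rw [Finset.prod_comm]
      refine Finset.prod_eq_one fun b _ => ?_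
      have : ∀ i, ρ ((b : H) * y ^ i * (b : H)⁻¹) v = ρ (b : H) (ρ (y ^ i) (ρ (b : H)⁻¹ v)) :=
        fun i => by rw [map_mul, map_mul]; rfl
      simp only [this]
      rw [← map_prod, hsum, map_one]
    have h2 : ∏ i ∈ Finset.range r, T (ρ (y ^ i) v) = 1 := by
      rw [hT, Finset.prod_comm]
      refine Finset.prod_eq_one fun b _ => ?_
      rw [← map_prod, hsum, map_one]
    have h0 : (0 : ℕ) ∈ Finset.range r := Finset.mem_range.2 hr
    rw [← Finset.mul_prod_erase _ _ h0] at h1 h2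
    rw [Finset.prod_congr rfl fun i hi =>
      key v i (Finset.mem_of_mem_erase hi) (Finset.ne_of_mem_erase hi)] at h1
    have := mul_right_cancel (h2.trans h1.symm)
    simp only [pow_zero, mul_one, mul_inv_cancel, map_one, MulAut.one_apply] at this
    rw [this, Finset.prod_const, Finset.card_univ, Nat.card_eq_fintype_card]
  refine (powCoprime hcop).injective ?_
  simp only [powCoprime_apply]
  rw [← map_pow, ← hpow, hTfix a ha]

end Cfsg.Agent.Lib.AutOrbits5
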