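import Cfsg.Agent.Lib.AutOrbits5.Orders
import Cfsg.Agent.Lib.PSLSpectrum.Main
import Cfsg.Agent.Lib.DicksonFull.Maximal
import Cfsg.Agent.Lib.PSL34Orders.Basic
import Cfsg.Agent.Lib.Golay.PSL34
import Cfsg.Agent.S0496
import Cfsg.Agent.S0497
import Cfsg.Prelude.Def_Exceptional

/-!
# At most five orbits of automorphisms: identification
-/

set_option autoImplicit false

namespace Cfsg.Agent.Lib.AutOrbits5

open Subgroup
open Cfsg.Agent.Lib.Involutions.Basic
open Cfsg.Agent.Lib.RecogThree.PSL2Orders (dd)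

universe u

variable {G : Type u} [Group G] [Finite G]

/-- Six distinct element orders are too many. -/
theorem six_false (h5 : Nat.card (MulAction.orbitRel.Quotient (MulAut G) G) ≤ 5) {a b c d e f : ℕ}
    (hn : [a, b, c, d, e, f].Nodup) (ha : ∃ g : G, orderOf g = a) (hb : ∃ g : G, orderOf g = b)
    (hc : ∃ g : G, orderOf g = c) (hd : ∃ g : G, orderOf g = d) (he : ∃ g : G, orderOf g = e)
    (hf : ∃ g : G, orderOf g = f) : False := by
  have h := card_orders_le h5 [a, b, c, d, e, f].toFinset (fun x hx => by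
    simp only [List.mem_toFinset, List.mem_cons, List.not_mem_nil, or_false] at hx
    rcases hx with rfl | rfl | rfl | rfl | rfl | rfl <;> assumption)
  rw [List.toFinset_card_of_nodup hn] at h
  simp at h

/-- The orders attained in `PSL₂`. -/
theorem exists_order_psl {F : Type} [Field F] [Fintype F]
    (i : G ≃* Matrix.ProjectiveSpecialLinearGroup (Fin 2) F) {m : ℕ}
    (hm : m ∣ ringChar F ∨ m ∣ (Fintype.card F - 1) / dd (Fintype.card F) ∨
      m ∣ (Fintype.card F + 1) / dd (Fintype.card F)) : ∃ g : G, orderOf g = m := by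
  haveI : CharP F (ringChar F) := ringChar.charP F
  haveI : Fact (ringChar F).Prime := ⟨CharP.char_is_prime F _⟩
  have h : m ∈ Set.range (orderOf : Matrix.ProjectiveSpecialLinearGroup (Fin 2) F → ℕ) := by
    rw [RecogThree.PSL2Orders.range_orderOf (F := F) (ringChar F)]; exact hm
  obtain ⟨y, hy⟩ := h
  exact ⟨i.symm y, (MulEquiv.orderOf_eq i.symm y).trans hy⟩

/-- A field of characteristic two or of prime order. -/
theorem ringChar_eq {F : Type} [Field F] [Fintype F] {p k : ℕ} (hp : p.Prime)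
    (h : Fintype.card F = p ^ k) : ringChar F = p := by
  haveI : CharP F (ringChar F) := ringChar.charP F
  obtain ⟨n, hpr, hn⟩ := FiniteField.card F (ringChar F)
  have : ringChar F ∣ p ^ k := h ▸ hn ▸ dvd_pow_self _ n.2.ne'
  exact (Nat.prime_dvd_prime_iff_eq hpr hp).1 (hpr.dvd_of_dvd_pow this)

variable [IsSimpleGroup G]

/-- The case `PSL₂`. -/
theorem of_psl_two (hna : ¬ IsMulCommutative G)
    (h5 : Nat.card (MulAction.orbitRel.Quotient (MulAut G) G) ≤ 5) {F : Type} [Field F] [Fintype F]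
    (hF : Fintype.card F = 9 ∨ (∃ n : ℕ, Fintype.card F = 2 ^ n) ∨
      ((Fintype.card F).Prime ∧ ∃ k : ℕ, Fintype.card F = 2 ^ k + 1 ∨ Fintype.card F + 1 = 2 ^ k))
    (i : G ≃* Matrix.ProjectiveSpecialLinearGroup (Fin 2) F) :
    Nonempty (G ≃* ↥(alternatingGroup (Fin 5))) ∨ Nonempty (G ≃* ↥(alternatingGroup (Fin 6))) ∨
      (∃ (F : Type) (_ : Field F) (_ : Fintype F), (Fintype.card F = 7 ∨ Fintype.card F = 8) ∧
        Nonempty (G ≃* Matrix.ProjectiveSpecialLinearGroup (Fin 2) F)) := by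
  classical
  have hG : Nat.card G = Nat.card (Matrix.ProjectiveSpecialLinearGroup (Fin 2) F) :=
    Nat.card_congr i.toEquiv
  have hsmall : ∀ n : ℕ, Nat.card G = n → n ≤ 12 → False := fun n hn hle => by
    rcases S0496.result hna (by omega) with h | h | h | h | h | h <;> omega
  have hsixty : Nat.card G = 60 → Nonempty (G ≃* ↥(alternatingGroup (Fin 5))) := fun h =>
    KleinThree.iso_alt_five hna Nat.prime_three (show Nat.Prime 5 by norm_num) (a := 1) (b := 1)
      (h.trans (by norm_num))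
  have hev : Even (Fintype.card F) → Nat.card G + Fintype.card F = Fintype.card F ^ 3 := fun he => by
    rw [hG]; exact DicksonFull.card_psl_even he
  have hod : Odd (Fintype.card F) → 2 * Nat.card G + Fintype.card F = Fintype.card F ^ 3 := fun he => by
    rw [hG]; exact DicksonFull.card_psl_odd he
  have hFpos : 1 < Fintype.card F := Fintype.one_lt_card
  rcases hF with hF | ⟨n, hF⟩ | ⟨hp, k, hk⟩
  · exact Or.inr (Or.inl (S0497.result (by have := hod (by rw [hF]; decide); rw [hF] at this; omega)))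
  · have hn0 : n ≠ 0 := fun e => by rw [hF, e] at hFpos; simp at hFpos
    have heven : Even (Fintype.card F) := by rw [hF]; exact even_two.pow_of_ne_zero hn0
    have hcard := hev heven
    rcases Nat.lt_or_ge n 4 with hn | hn
    · interval_cases n
      · exact absurd rfl hn0
      · rw [hF] at hcard; exact (hsmall 6 (by omega) (by norm_num)).elim
      · rw [hF] at hcard; exact Or.inl (hsixty (by omega))
      · exact Or.inr (Or.inr ⟨F, inferInstance, inferInstance, Or.inr hF, ⟨i⟩⟩)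
    · exfalso
      have hrc := ringChar_eq Nat.prime_two hF
      have hdd : dd (Fintype.card F) = 1 := if_pos (even_iff_two_dvd.1 heven)
      have h16 : 16 ≤ 2 ^ n := (show (16 : ℕ) = 2 ^ 4 by norm_num) ▸ Nat.pow_le_pow_right two_pos hn
      have he2 : 2 ^ n % 2 = 0 := Nat.even_iff.1 (even_two.pow_of_ne_zero hn0)
      have hm : ∀ m, m ∣ 2 ∨ m ∣ 2 ^ n - 1 ∨ m ∣ 2 ^ n + 1 → ∃ g : G, orderOf g = m := by
        intro m hm
        refine exists_order_psl i ?_
        rwa [hdd, Nat.div_one, Nat.div_one, hrc, hF]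
      have h3 : 3 ∣ 2 ^ n - 1 ∨ 3 ∣ 2 ^ n + 1 := by
        have : 2 ^ n % 3 ≠ 0 := fun h => by
          have h' := Nat.prime_three.dvd_of_dvd_pow (Nat.dvd_of_mod_eq_zero h)
          norm_num at h'
        rcases (by omega : 2 ^ n % 3 = 1 ∨ 2 ^ n % 3 = 2) with h | h
        · exact Or.inl (Nat.dvd_of_mod_eq_zero (by omega))
        · exact Or.inr (Nat.dvd_of_mod_eq_zero (by omega))
      rcases h3 with ⟨m, hm'⟩ | ⟨m, hm'⟩
      · refine six_false h5 (a := 1) (b := 2) (c := 3) (d := m) (e := 2 ^ n - 1) (f := 2 ^ n + 1) ?_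
          ⟨1, orderOf_one⟩ (hm 2 (Or.inl dvd_rfl)) (hm 3 (Or.inr (Or.inl ⟨m, hm'⟩)))
          (hm m (Or.inr (Or.inl ⟨3, by rw [hm', mul_comm]⟩))) (hm _ (Or.inr (Or.inl dvd_rfl)))
          (hm _ (Or.inr (Or.inr dvd_rfl)))
        simp only [List.nodup_cons, List.mem_cons, List.not_mem_nil, List.nodup_nil, or_false, not_or,
          not_false_eq_true, and_true]
        omega
      · refine six_false h5 (a := 1) (b := 2) (c := 3) (d := m) (e := 2 ^ n - 1) (f := 2 ^ n + 1) ?_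
          ⟨1, orderOf_one⟩ (hm 2 (Or.inl dvd_rfl)) (hm 3 (Or.inr (Or.inr ⟨m, hm'⟩)))
          (hm m (Or.inr (Or.inr ⟨3, by rw [hm', mul_comm]⟩))) (hm _ (Or.inr (Or.inl dvd_rfl)))
          (hm _ (Or.inr (Or.inr dvd_rfl)))
        have hne : m ≠ 3 := by
          intro e
          subst e
          have h8 : 2 ^ n = 8 := by omega
          omega
        simp only [List.nodup_cons, List.mem_cons, List.not_mem_nil, List.nodup_nil, or_false, not_or,
          not_false_eq_true, and_true]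
        omega
  · have hrc : ringChar F = Fintype.card F := ringChar_eq (k := 1) hp (pow_one _).symm
    rcases hp.eq_two_or_odd' with hp2 | hodd
    · have hcard := hev (by rw [hp2]; exact even_two)
      rw [hp2] at hcard
      exact (hsmall 6 (by omega) (by norm_num)).elim
    have hcard := hod hodd
    rcases Nat.lt_or_ge k 4 with hk4 | hk4
    · have h2k : 2 ^ k ≤ 8 := (show (8 : ℕ) = 2 ^ 3 by norm_num) ▸ Nat.pow_le_pow_right two_pos (by omega)
      have hle : Fintype.card F ≤ 9 := by omega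
      have h2 := Nat.odd_iff.1 hodd
      obtain h | h | h | h : Fintype.card F = 3 ∨ Fintype.card F = 5 ∨ Fintype.card F = 7 ∨ Fintype.card F = 9 := by
        omega
      · rw [h] at hcard; exact (hsmall 12 (by omega) (by norm_num)).elim
      · rw [h] at hcard; exact Or.inl (hsixty (by omega))
      · exact Or.inr (Or.inr ⟨F, inferInstance, inferInstance, Or.inl h, ⟨i⟩⟩)
      · rw [h] at hp; norm_num at hp
    · exfalso
      set p := Fintype.card F
      have hdd : dd p = 2 := if_neg (fun h => Nat.not_even_iff_odd.2 hodd (even_iff_two_dvd.2 h))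
      obtain ⟨j, rfl⟩ : ∃ j, k = j + 1 := ⟨k - 1, by omega⟩
      have hj : 8 ∣ 2 ^ j := (show (8 : ℕ) = 2 ^ 3 by norm_num) ▸ pow_dvd_pow 2 (by omega)
      have hexp : ∀ m, m ∣ 2 ^ j → ∃ g : G, orderOf g = m := by
        intro m hm
        refine exists_order_psl i ?_
        rw [hdd]
        rcases hk with hk | hk
        · refine Or.inr (Or.inl ?_)
          rwa [show (p - 1) / 2 = 2 ^ j by rw [pow_succ] at hk; omega]
        · refine Or.inr (Or.inr ?_)
          rwa [show (p + 1) / 2 = 2 ^ j by rw [pow_succ] at hk; omega]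
      have h15 : 15 ≤ p := by
        have : 16 ≤ 2 ^ (j + 1) := (show (16 : ℕ) = 2 ^ 4 by norm_num) ▸ Nat.pow_le_pow_right two_pos hk4
        omega
      obtain ⟨-, r, hr, hrd, hr2, hrp⟩ := exists_three_primes hna hp
      have hrodd : r % 2 = 1 := Nat.odd_iff.1 (hr.odd_of_ne_two hr2)
      refine six_false h5 (a := 1) (b := 2) (c := 4) (d := 8) (e := p) (f := r) ?_
        ⟨1, orderOf_one⟩ (hexp 2 (Dvd.dvd.trans (by norm_num) hj)) (hexp 4 (Dvd.dvd.trans (by norm_num) hj))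
        (hexp 8 hj) (exists_order_psl i (Or.inl (by rw [hrc]))) (exists_order_prime hr hrd)
      have := hr.one_lt
      simp only [List.nodup_cons, List.mem_cons, List.not_mem_nil, List.nodup_nil, or_false, not_or,
        not_false_eq_true, and_true]
      omega

/-- The case `PSL₃(4)`. -/
theorem of_psl_three_false (h5 : Nat.card (MulAction.orbitRel.Quotient (MulAut G) G) ≤ 5)
    (i : G ≃* Matrix.ProjectiveSpecialLinearGroup (Fin 3) Golay.PSL34.F4) : False := by
  have hG : Nat.card G = 20160 := (Nat.card_congr i.toEquiv).trans Golay.PSL34.card_PSL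
  have hpr : ∀ p, p.Prime → p ∣ 20160 → ∃ g : G, orderOf g = p := fun p hp hd =>
    exists_order_prime hp (hG ▸ hd)
  let g : Matrix.SpecialLinearGroup (Fin 3) Golay.PSL34.F4 := ⟨!![1, 1, 0; 0, 1, 1; 0, 0, 1], by simp [Matrix.det_fin_three]⟩
  haveI : Fact (Nat.Prime 2) := ⟨Nat.prime_two⟩
  have key : ∀ k, (QuotientGroup.mk g : Matrix.ProjectiveSpecialLinearGroup (Fin 3) Golay.PSL34.F4) ^ k = 1 ↔
      PSL34Orders.IsScal ((g : Matrix (Fin 3) (Fin 3) Golay.PSL34.F4) ^ k) := fun k => by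
    rw [← QuotientGroup.mk_pow, QuotientGroup.eq_one_iff, PSL34Orders.mem_center_iff_scal]
    simp
  have h4 : ∃ x : G, orderOf x = 4 := by
    refine ⟨i.symm (QuotientGroup.mk g), ?_⟩
    rw [MulEquiv.orderOf_eq]
    refine orderOf_eq_prime_pow (p := 2) (n := 1) ?_ ?_
    · rw [pow_one, key]
      rintro ⟨r, hr⟩
      have e02 := congrFun (congrFun hr 0) 2
      simp [g, pow_two, Matrix.mul_apply, Fin.sum_univ_three] at e02
    · rw [show 2 ^ (1 + 1) = 4 by rfl, key]
      refine ⟨1, ?_⟩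
      rw [one_smul]
      show (!![1, 1, 0; 0, 1, 1; 0, 0, 1] : Matrix (Fin 3) (Fin 3) Golay.PSL34.F4) ^ 4 = 1
      decide +kernel
  exact six_false h5 (a := 1) (b := 2) (c := 3) (d := 4) (e := 5) (f := 7) (by decide)
    ⟨1, orderOf_one⟩ (hpr 2 Nat.prime_two (by norm_num)) (hpr 3 Nat.prime_three (by norm_num)) h4
    (hpr 5 (by norm_num) (by norm_num)) (hpr 7 (by norm_num) (by norm_num))

/-- The Suzuki case. -/
theorem suzuki_false (hna : ¬ IsMulCommutative G)
    (h5 : Nat.card (MulAction.orbitRel.Quotient (MulAut G) G) ≤ 5) (hS : Cfsg.IsSuzuki G) : False := by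
  classical
  haveI : Fact (Nat.Prime 2) := ⟨Nat.prime_two⟩
  obtain ⟨-, m, hm, hcard⟩ := hS
  set Q := 2 ^ (2 * m + 1) with hQ
  set T := 2 ^ (m + 1) with hT
  have h4T : 4 ≤ T := (show (4 : ℕ) = 2 ^ 2 by norm_num) ▸ Nat.pow_le_pow_right two_pos (by omega)
  have hTT : T * T = 2 * Q := by rw [hT, hQ, ← pow_add, ← pow_succ']; ring_nf
  have h2T : 2 * T ≤ T * T := Nat.mul_le_mul_right T (by omega)
  have hTe : T % 2 = 0 := Nat.even_iff.1 (even_two.pow_of_ne_zero (by omega))
  have hQe : Q % 2 = 0 := Nat.even_iff.1 (even_two.pow_of_ne_zero (by omega))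
  have h4TT : 4 * T ≤ T * T := Nat.mul_le_mul_right T h4T
  -- three odd factors, pairwise coprime
  have hA2 : 2 ≤ Q - T + 1 := by omega
  have hAB : (Q - T + 1) * (Q + T + 1) = Q ^ 2 + 1 := by
    obtain ⟨D, hD⟩ : ∃ D, Q = T + D := ⟨Q - T, by omega⟩
    have e : (T + D) + (T + D) = T * T := by omega
    rw [hD, Nat.add_sub_cancel_left]
    nlinarith
  obtain ⟨p₁, hp₁, hd₁⟩ := Nat.exists_prime_and_dvd (show Q - T + 1 ≠ 1 by omega)
  obtain ⟨p₂, hp₂, hd₂⟩ := Nat.exists_prime_and_dvd (show Q + T + 1 ≠ 1 by omega)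
  obtain ⟨p₃, hp₃, hd₃⟩ := Nat.exists_prime_and_dvd (show Q - 1 ≠ 1 by omega)
  have hsq1 : ∀ {p}, p ∣ Q ^ 2 + 1 → p ∣ Q - 1 → p ∣ 2 := by
    intro p h1 h2
    have e : Q ^ 2 + 1 = (Q - 1) * (Q + 1) + 2 := by
      obtain ⟨D, hD⟩ : ∃ D, Q = D + 1 := ⟨Q - 1, by omega⟩
      rw [hD, Nat.add_sub_cancel]; ring
    rw [e] at h1
    exact (Nat.dvd_add_right (h2.mul_right _)).1 h1
  have hne2 : ∀ {p N : ℕ}, p.Prime → p ∣ N → N % 2 = 1 → p ≠ 2 := by
    rintro p N - hd hN rfl; omega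
  have hodd : (Q ^ 2 + 1) % 2 = 1 := by
    rw [pow_two]; simp [Nat.add_mod, Nat.mul_mod, hQe]
  have hd₁' : p₁ ∣ Q ^ 2 + 1 := hd₁.trans ⟨_, hAB.symm⟩
  have hd₂' : p₂ ∣ Q ^ 2 + 1 := hd₂.trans ⟨_, by rw [mul_comm]; exact hAB.symm⟩
  have h₁ : p₁ ≠ 2 := hne2 hp₁ hd₁' hodd
  have h₂ : p₂ ≠ 2 := hne2 hp₂ hd₂' hodd
  have h₃ : p₃ ≠ 2 := hne2 hp₃ hd₃ (by omega)
  have h13 : p₁ ≠ p₃ := fun e => h₁ ((Nat.prime_dvd_prime_iff_eq hp₁ Nat.prime_two).1 (hsq1 hd₁' (e ▸ hd₃)))
  have h23 : p₂ ≠ p₃ := fun e => h₂ ((Nat.prime_dvd_prime_iff_eq hp₂ Nat.prime_two).1 (hsq1 hd₂' (e ▸ hd₃)))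
  have h12 : p₁ ≠ p₂ := by
    intro e
    have hd : p₁ ∣ (Q + T + 1) - (Q - T + 1) := Nat.dvd_sub (e ▸ hd₂) hd₁
    rw [show Q + T + 1 - (Q - T + 1) = 2 ^ (m + 2) by rw [pow_succ, ← hT]; omega] at hd
    exact h₁ ((Nat.prime_dvd_prime_iff_eq hp₁ Nat.prime_two).1 (hp₁.dvd_of_dvd_pow hd))
  have hex : ∀ p, p.Prime → (p ∣ Q ^ 2 + 1 ∨ p ∣ Q - 1) → ∃ g : G, orderOf g = p := by
    intro p hp hd
    refine exists_order_prime hp ?_
    rw [hcard]
    rcases hd with hd | hd
    · exact (hd.mul_left _).mul_right _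
    · exact hd.mul_left _
  -- no element of order four
  have hexp : ∀ g : G, orderOf g ≠ 4 := fun g hg => by
    refine six_false h5 (a := 1) (b := 2) (c := 4) (d := p₁) (e := p₂) (f := p₃) ?_
      ⟨1, orderOf_one⟩ ⟨g ^ 2, by rw [orderOf_pow' g two_ne_zero, hg]; rfl⟩ ⟨g, hg⟩
      (hex _ hp₁ (Or.inl hd₁')) (hex _ hp₂ (Or.inl hd₂')) (hex _ hp₃ (Or.inr hd₃))
    have := hp₁.one_lt; have := hp₂.one_lt; have := hp₃.one_lt
    have := Nat.odd_iff.1 (hp₁.odd_of_ne_two h₁); have := Nat.odd_iff.1 (hp₂.odd_of_ne_two h₂)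
    have := Nat.odd_iff.1 (hp₃.odd_of_ne_two h₃)
    simp only [List.nodup_cons, List.mem_cons, List.not_mem_nil, List.nodup_nil, or_false, not_or,
      not_false_eq_true, and_true]
    omega
  have hCIT : ∀ t : G, orderOf t = 2 → IsPGroup 2 (Subgroup.centralizer ({t} : Set G)) :=
    fun t ht => isPGroup_centralizer hna h5 ht
  have hsq : ∀ {H : Subgroup G}, IsPGroup 2 H → ∀ a ∈ H, a * a = 1 := by
    intro H hH a ha
    obtain ⟨k, hk⟩ := (IsPGroup.iff_orderOf.1 hH) ⟨a, ha⟩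
    rw [Subgroup.orderOf_mk] at hk
    rcases Nat.lt_or_ge k 2 with hk2 | hk2
    · rw [← pow_two]
      exact orderOf_dvd_iff_pow_eq_one.1 (by rw [hk]; exact pow_dvd_pow 2 (by omega : k ≤ 1))
    · exfalso
      refine hexp (a ^ 2 ^ (k - 2)) ?_
      rw [orderOf_pow_of_dvd (pow_ne_zero _ two_ne_zero) (hk ▸ pow_dvd_pow 2 (Nat.sub_le k 2)), hk,
        Nat.pow_div (Nat.sub_le k 2) two_pos, show k - (k - 2) = 2 by omega]
      rfl
  have hcomm : ∀ {H : Subgroup G}, IsPGroup 2 H → ∀ a ∈ H, ∀ b ∈ H, a * b = b * a := by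
    intro H hH a ha b hb
    rw [← inv_eq_of_mul_eq_one_left (hsq hH _ (mul_mem ha hb)), mul_inv_rev,
      inv_eq_of_mul_eq_one_left (hsq hH _ ha), inv_eq_of_mul_eq_one_left (hsq hH _ hb)]
  -- commuting of involutions is transitive
  have htrans : ∀ {a b z : G}, orderOf z = 2 → Commute a z → Commute b z → Commute a b :=
    fun hz ha hb => hcomm (hCIT _ hz) _ (mem_centralizer_singleton_iff.2 ha.eq) _
      (mem_centralizer_singleton_iff.2 hb.eq)
  -- one class of involutions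
  have hone : ∀ u v : G, orderOf u = 2 → orderOf v = 2 → IsConj u v := by
    intro u v hu hv
    by_contra hnc
    set N := Subgroup.normalClosure ({v} : Set G) with hN
    have hNle : N ≤ Subgroup.centralizer ({u} : Set G) := by
      rw [hN, Subgroup.normalClosure, Subgroup.closure_le]
      intro w hw
      obtain ⟨v', hv', hc⟩ := Group.mem_conjugatesOfSet_iff.1 hw
      rw [Set.mem_singleton_iff] at hv'
      subst hv'
      obtain ⟨g, hg⟩ := isConj_iff.1 hc
      have hw2 : orderOf w = 2 := hg ▸ (orderOf_conj_eq g _).trans hv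
      obtain ⟨hz, hzu, hzw⟩ := central_invol hu hw2
        (even_of_not_isConj hu hw2 fun h' => hnc (h'.trans hc.symm))
      exact mem_centralizer_singleton_iff.2 (htrans hz hzw.symm hzu.symm).eq
    have hNn : N.Normal := Subgroup.normalClosure_normal
    rcases hNn.eq_bot_or_eq_top with e | e
    · have : v ∈ N := Subgroup.subset_normalClosure rfl
      rw [e, Subgroup.mem_bot] at this
      exact invol_ne_one hv this
    · refine hna ⟨⟨fun a b => ?_⟩⟩
      exact hcomm (hCIT u hu) a (hNle (e ▸ Subgroup.mem_top a)) b (hNle (e ▸ Subgroup.mem_top b))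
  -- the normaliser of a Sylow subgroup is transitive
  set S : Sylow 2 G := default
  have hScard : Nat.card (S : Subgroup G) = Q ^ 2 := by
    rw [Sylow.card_eq_multiplicity, hcard]
    have ho : Odd ((Q ^ 2 + 1) * (Q - 1)) := Odd.mul (Nat.odd_iff.2 hodd) (Nat.odd_iff.2 (by omega))
    have hQ2 : Q ^ 2 = 2 ^ ((2 * m + 1) * 2) := by rw [hQ, ← pow_mul]
    rw [mul_assoc, Nat.factorization_mul (by positivity) ho.pos.ne', Finsupp.add_apply,
      Nat.factorization_eq_zero_of_not_dvd (n := (Q ^ 2 + 1) * (Q - 1))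
        (fun h => Nat.not_even_iff_odd.2 ho (even_iff_two_dvd.2 h)), add_zero, hQ2,
      Nat.Prime.factorization_pow Nat.prime_two, Finsupp.single_eq_same]
  have hS2 : Even (Nat.card (S : Subgroup G)) := by
    rw [hScard]; exact (Nat.even_iff.2 hQe).pow_of_ne_zero two_ne_zero
  obtain ⟨⟨s, hsS⟩, hs'⟩ := exists_invol (G := (S : Subgroup G)) hS2
  have hs : orderOf s = 2 := by rw [← hs', Subgroup.orderOf_mk]
  set NS := Subgroup.normalizer ((S : Subgroup G) : Set G) with hNS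
  have hS' : {t : G // ∃ k ∈ NS, k * s * k⁻¹ = t} ≃ {x : (S : Subgroup G) // x ≠ 1} :=
    { toFun := fun t => ⟨⟨t.1, by
          obtain ⟨k, hk, e⟩ := t.2
          exact e ▸ (Subgroup.mem_normalizer_iff.1 hk s).1 hsS⟩, fun e => by
          obtain ⟨k, -, e'⟩ := t.2
          exact invol_ne_one hs (conj_eq_one_iff.1 (e'.trans (congrArg Subtype.val e)))⟩
      invFun := fun x => ⟨x.1.1, by
        haveI : IsMulCommutative (S : Subgroup G) :=
          ⟨⟨fun a b => Subtype.ext (hcomm S.2 a a.2 b b.2)⟩⟩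
        have hx2 : orderOf (x.1 : G) = 2 :=
          invol_iff.2 ⟨hsq S.2 _ x.1.2, fun e => x.2 (Subtype.ext e)⟩
        obtain ⟨g, hg⟩ := isConj_iff.1 (hone s _ hs hx2)
        have e : (g⁻¹)⁻¹ * s * g⁻¹ = (x.1 : G) := by rw [inv_inv, hg]
        obtain ⟨w, hw, hw'⟩ := Sylow.conj_eq_normalizer_conj_of_mem S s g⁻¹ hsS (by rw [e]; exact x.1.2)
        exact ⟨w⁻¹, inv_mem hw, by rw [inv_inv, ← hw', e]⟩⟩
      left_inv := fun _ => rfl
      right_inv := fun _ => rfl }
  have hcardS : Nat.card {x : (S : Subgroup G) // x ≠ 1} = Q ^ 2 - 1 := by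
    have := Fintype.ofFinite (S : Subgroup G)
    rw [Nat.card_eq_fintype_card, Fintype.card_subtype_compl, Fintype.card_subtype_eq,
      ← Nat.card_eq_fintype_card, hScard]
  have hdvd : Q + 1 ∣ Nat.card G := by
    have h := card_conj_mul NS s
    rw [Nat.card_congr hS', hcardS] at h
    refine Dvd.dvd.trans ⟨Q - 1, ?_⟩ ((Dvd.intro _ h).trans (Subgroup.card_subgroup_dvd_card NS))
    obtain ⟨D, hD⟩ : ∃ D, Q = D + 1 := ⟨Q - 1, by omega⟩
    rw [hD, Nat.add_sub_cancel, Nat.sub_eq_of_eq_add]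
    ring
  rw [hcard] at hdvd
  obtain ⟨p, hp, hpd⟩ := Nat.exists_prime_and_dvd (show Q + 1 ≠ 1 by omega)
  have hp2 : p ≠ 2 := hne2 hp hpd (by omega)
  rcases hp.dvd_mul.1 (hpd.trans hdvd) with h | h
  · rcases hp.dvd_mul.1 h with h | h
    · have h' : p ∣ Q := hp.dvd_of_dvd_pow h
      have := (Nat.dvd_add_right h').1 hpd
      exact hp.ne_one (Nat.dvd_one.1 this)
    · obtain ⟨D, hD⟩ : ∃ D, Q = D + 1 := ⟨Q - 1, by omega⟩
      have e : Q ^ 2 + 1 = (Q + 1) * (Q - 1) + 2 := by rw [hD, Nat.add_sub_cancel]; ring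
      rw [e] at h
      exact hp2 ((Nat.prime_dvd_prime_iff_eq hp Nat.prime_two).1
        ((Nat.dvd_add_right (hpd.mul_right _)).1 h))
  · have h' := Nat.dvd_sub hpd h
    rw [show Q + 1 - (Q - 1) = 2 by omega] at h'
    exact hp2 ((Nat.prime_dvd_prime_iff_eq hp Nat.prime_two).1 h')

end Cfsg.Agent.Lib.AutOrbits5
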