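import Cfsg.Agent.Lib.AutOrbits5.Embedded
import Cfsg.Agent.Lib.AutOrbits5.Count
import Cfsg.Agent.Lib.AutOrbits5.Arith
import Cfsg.Agent.Lib.AutOrbits5.Fixed
import Cfsg.Agent.Lib.KleinThree.Main
import Cfsg.Agent.Lib.Classif.SmallOrderTools
import Cfsg.Agent.Lib.Coprime.Glauberman

/-!
# The mixed case is impossible
-/

set_option autoImplicit false

namespace Cfsg.Agent.Lib.AutOrbits5

open Subgroup Cfsg
open Cfsg.Agent.Lib.Involutions.Basic
open Cfsg.Agent.Lib.Involutions

universe u

variable {G : Type u} [Group G] [Finite G] {q r : ℕ} (h : Mix G q r)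
include h

/-- The odd divisors of the group order. -/
theorem Mix.eq_pow_mul {x : ℕ} (hx : x ∣ Nat.card G) (hodd : Odd x) :
    x = r ^ x.factorization r * q ^ x.factorization q := by
  have hx0 : x ≠ 0 := hodd.pos.ne'
  refine Nat.eq_of_factorization_eq hx0 (mul_ne_zero (pow_ne_zero _ h.hr.ne_zero)
    (pow_ne_zero _ h.hq.ne_zero)) fun p => ?_
  rw [Nat.factorization_mul (pow_ne_zero _ h.hr.ne_zero) (pow_ne_zero _ h.hq.ne_zero),
    h.hr.factorization_pow, h.hq.factorization_pow, Finsupp.add_apply]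
  by_cases hp : p.Prime ∧ p ∣ x
  · haveI := Fact.mk hp.1
    obtain ⟨g, hg⟩ := exists_prime_orderOf_dvd_card' (G := G) p (hp.2.trans hx)
    rcases h.prime_cases hp.1 (dvd_of_eq hg.symm) with rfl | rfl | rfl
    · exact absurd (even_iff_two_dvd.2 hp.2) (Nat.not_even_iff_odd.2 hodd)
    · simp [h.hqr]
    · simp [h.hqr.symm]
  · have h0 : x.factorization p = 0 := by
      rw [Nat.factorization_eq_zero_iff]
      tauto
    have hpr : p = r → x.factorization r = 0 := fun e => e ▸ h0
    have hpq : p = q → x.factorization q = 0 := fun e => e ▸ h0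
    rw [h0, Finsupp.single_apply, Finsupp.single_apply]
    split_ifs with a b b <;> simp_all

omit h in
theorem two_dvd_card {M : Subgroup G} (hSE : Cfsg.IsStronglyEmbedded M) : 2 ∣ Nat.card G :=
  (even_iff_two_dvd.1 hSE.2.1).trans (Subgroup.card_subgroup_dvd_card M)

/-- An involution normalising the centraliser of an element of order `r` inverts it. -/
theorem Mix.invert_of_normalize {M : Subgroup G} (hSE : Cfsg.IsStronglyEmbedded M) {z t : G}
    (hz : orderOf z = r) (ht : orderOf t = 2)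
    (hn : t ∈ Subgroup.normalizer (Subgroup.centralizer ({z} : Set G) : Set G)) :
    t * z * t = z⁻¹ := by
  have hzP : z ∈ Subgroup.centralizer ({z} : Set G) := mem_centralizer_singleton_iff.2 rfl
  have hxP : t * z * t ∈ Subgroup.centralizer ({z} : Set G) := by
    have := (Subgroup.mem_normalizer_iff.1 hn z).1 hzP
    rwa [invol_inv ht] at this
  have hcm := h.centralizer_comm hSE hz hzP hxP
  have htt := invol_mul_self ht
  by_contra hne
  rcases h.centralizer_cases hz (mul_mem hzP hxP) with e | e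
  · exact hne (eq_inv_of_mul_eq_one_right e)
  · refine h.no_two_r ht e ?_
    unfold Commute SemiconjBy
    calc t * (z * (t * z * t)) = t * z * (t * z * t) := by group
      _ = t * z * t * z * t := by group
      _ = t * z * t * z * t := rfl
      _ = z * (t * z * t) * t := by rw [hcm]

/-- The order of the stabiliser of a fibre. -/
theorem Mix.card_stab {M : Subgroup G} (hSE : Cfsg.IsStronglyEmbedded M) {z s : G} (hz : orderOf z = r)
    (hs : orderOf s = 2) (hsz : s * z * s = z⁻¹) :
    ∃ l : ℕ, Nat.card ↥(Subgroup.normalizer (Subgroup.centralizer ({z} : Set G) : Set G) ⊓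
      Subgroup.centralizer ({s} : Set G)) = 2 * q ^ l := by
  haveI : Fact (Nat.Prime 2) := ⟨Nat.prime_two⟩
  set D := Subgroup.normalizer (Subgroup.centralizer ({z} : Set G) : Set G) ⊓
    Subgroup.centralizer ({s} : Set G) with hD
  obtain ⟨a, b, e⟩ := h.card_eq D fun y hy hyr =>
    h.no_two_r hs hyr (mem_centralizer_singleton_iff.1 hy.2).symm
  have hss := invol_mul_self hs
  have huniq : ∀ t ∈ D, orderOf t = 2 → t = s := by
    intro t ht ht2
    have htz := h.invert_of_normalize hSE hz ht2 ht.1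
    have hts : t * s = s * t := mem_centralizer_singleton_iff.1 ht.2
    have hP : s * t ∈ Subgroup.centralizer ({z} : Set G) := by
      rw [mem_centralizer_singleton_iff]
      calc s * t * z = s * (t * z * t) * t := by
            simp only [mul_assoc, invol_mul_self ht2, mul_one]
        _ = s * z⁻¹ * t := by rw [htz]
        _ = s * (s * z * s) * t := by rw [hsz]
        _ = z * (s * t) := by simp only [← mul_assoc, hss, one_mul]
    have hsq : (s * t) ^ 2 = 1 := by
      rw [pow_two, mul_assoc, ← mul_assoc t, hts, mul_assoc s t, invol_mul_self ht2, mul_one, hss]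
    rcases h.centralizer_cases hz hP with e1 | e1
    · rw [← invol_inv hs] at e1
      exact (inv_mul_eq_one.1 e1).symm
    · have := Nat.le_of_dvd two_pos (e1 ▸ orderOf_dvd_of_pow_eq_one hsq)
      have := h.three_le_r
      omega
  have hsD : s ∈ D := by
    refine ⟨Subgroup.mem_normalizer_iff.2 fun w => ⟨fun hw => ?_, fun hw => ?_⟩,
      mem_centralizer_singleton_iff.2 rfl⟩
    · rw [invol_inv hs, h.invert_all hz hs hsz hw]
      exact inv_mem hw
    · rw [invol_inv hs] at hw
      have e2 := h.invert_all hz hs hsz hw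
      have e3 : s * (s * w * s) * s = w := by
        rw [← mul_assoc, ← mul_assoc, hss, one_mul, mul_assoc, hss, mul_one]
      rw [e3] at e2
      rw [e2]
      exact inv_mem hw
  have ha : a = 1 := by
    rcases Nat.lt_trichotomy a 1 with ha | ha | ha
    · exfalso
      have hd := orderOf_dvd_natCard (⟨s, hsD⟩ : D)
      rw [Subgroup.orderOf_mk, hs, e, show a = 0 by omega, pow_zero, one_mul] at hd
      exact h.hq2 ((Nat.prime_dvd_prime_iff_eq Nat.prime_two h.hq).1
        (Nat.prime_two.dvd_of_dvd_pow hd)).symm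
    · exact ha
    · exfalso
      obtain ⟨Q, hQ⟩ := Sylow.exists_subgroup_card_pow_prime (G := D) 2 (n := 2)
        (e ▸ Dvd.dvd.mul_right (pow_dvd_pow 2 ha) _)
      have hQp : IsPGroup 2 (Q.map D.subtype) := (IsPGroup.of_card hQ).map _
      have hall : ∀ x : Q, x = 1 ∨ (x : G) = s := fun x => by
        by_cases h1 : x = 1
        · exact Or.inl h1
        · right
          refine huniq _ (x : D).2 (invol_iff.2 ⟨h.sq_eq_one hQp ⟨x, x.2, rfl⟩, ?_⟩)
          exact fun e' => h1 (Subtype.ext (Subtype.ext e'))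
      classical
      have := Fintype.ofFinite Q
      have hle : Fintype.card Q ≤ 2 := by
        refine le_trans (Fintype.card_le_of_injective (fun x : Q => decide (x = 1)) ?_) (by simp)
        intro x y exy
        simp only [decide_eq_decide] at exy
        rcases hall x with hx | hx
        · rw [hx, exy.1 hx]
        · rcases hall y with hy | hy
          · rw [hy, exy.2 hy]
          · exact Subtype.ext (Subtype.ext (hx.trans hy.symm))
      rw [← Nat.card_eq_fintype_card, hQ] at hle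
      omega
  exact ⟨b, by rw [e, ha, pow_one]⟩

/-- A nontrivial `r`-element in `M` inverted by `s` makes the normaliser of `S` free of elements of
order `r`. -/
theorem Mix.no_r_normalizer [IsSimpleGroup G] {S : Sylow 2 G} (h8 : 8 ≤ Nat.card (S : Subgroup G))
    {M : Subgroup G} (hE : Emb G S M) {s z : G} (hs : orderOf s = 2) (hsS : s ∈ (S : Subgroup G))
    (hz : orderOf z = r) (hzM : z ∈ M) (hsz : s * z * s = z⁻¹) {y : G}
    (hy : y ∈ Subgroup.normalizer ((S : Subgroup G) : Set G)) : orderOf y ≠ r := by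
  haveI : Fact (Nat.Prime 2) := ⟨Nat.prime_two⟩
  intro hyr
  have hss := invol_mul_self hs
  have hz2 : orderOf (z ^ 2) = r := by
    rw [Nat.Coprime.orderOf_pow (hz ▸ h.cop2r.symm), hz]
  have hzs : z * s * z⁻¹ = z ^ 2 * s := by
    have e : z⁻¹ * s = s * z := by
      rw [← hsz, mul_assoc, hss, mul_one]
    have e2 : s * z⁻¹ = z * s := by
      rw [← hsz]
      simp only [← mul_assoc, hss, one_mul]
    rw [mul_assoc, e2, ← mul_assoc, ← pow_two]
  rcases hE.shape with hM | ⟨W, hW1, hWodd, hM⟩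
  · rw [hM] at hzM
    have h1 : z * s * z⁻¹ ∈ (S : Subgroup G) := (Subgroup.mem_normalizer_iff.1 hzM s).1 hsS
    rw [hzs] at h1
    have h2 : z ^ 2 ∈ (S : Subgroup G) := by simpa using mul_mem h1 (inv_mem hsS)
    have h3 := h.sq_eq_one S.2 h2
    have := Nat.le_of_dvd two_pos (hz2 ▸ orderOf_dvd_of_pow_eq_one (by rwa [pow_two]))
    have := h.three_le_r
    omega
  · haveI := Fact.mk h.hq
    haveI := Fact.mk h.hr
    have hA : IsElementaryAbelian 2 (S : Subgroup G) :=
      ⟨⟨⟨fun a b => Subtype.ext (h.comm_two S.2 a.2 b.2)⟩⟩,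
        fun a ha => by rw [pow_two]; exact h.sq_eq_one S.2 ha⟩
    have hSW : (S : Subgroup G) ≤ Subgroup.normalizer (W : Set G) := hM ▸ hE.le
    have hcopW : (Nat.card (S : Subgroup G)).Coprime (Nat.card W) := by
      obtain ⟨n, hn⟩ := IsPGroup.iff_card.1 S.2
      rw [hn]
      exact ((Nat.prime_two.coprime_iff_not_dvd).2 hWodd).pow_left n
    -- `W` is a `q`-group
    have hWq : IsPGroup q W := by
      rw [IsPGroup.iff_card]
      refine ⟨_, Nat.eq_prime_pow_of_unique_prime_dvd Nat.card_pos.ne' fun {p} hp hpd => ?_⟩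
      haveI := Fact.mk hp
      obtain ⟨w, hw⟩ := exists_prime_orderOf_dvd_card' (G := W) p hpd
      rw [← Subgroup.orderOf_coe] at hw
      rcases h.prime_cases hp (dvd_of_eq hw.symm) with rfl | rfl | rfl
      · exact absurd hpd hWodd
      · rfl
      · exfalso
        obtain ⟨R, hR⟩ := Coprime.exists_invariant_sylow hSW hcopW
          (Or.inl (by haveI := hA.1; exact Coprime.isSolvable_of_isMulCommutative _)) p
        set K := ((R : Subgroup W).map W.subtype : Subgroup G) with hK
        have hKp : IsPGroup p K := R.2.map _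
        have hKbot : K ≤ ⊥ := by
          refine Signalizer.le_of_hyp hA hR ?_ fun B hB => ?_
          · obtain ⟨n, hn⟩ := IsPGroup.iff_card.1 hKp
            rw [hn]
            exact fun hd => h.hr2 ((Nat.prime_dvd_prime_iff_eq Nat.prime_two hp).1
              (Nat.prime_two.dvd_of_dvd_pow hd)).symm
          · rintro x ⟨hxK, hxB⟩
            obtain ⟨b, hb, hb1⟩ := Signalizer.exists_ne_one_of_hyp (p := 2) (A := (S : Subgroup G)) h8 hB
            rw [Subgroup.mem_bot]
            by_contra hx1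
            obtain ⟨k, hk⟩ := (IsPGroup.iff_orderOf.1 hKp) ⟨x, hxK⟩
            rw [Subgroup.orderOf_mk] at hk
            exact h.no_two_r (invol_iff.2 ⟨h.sq_eq_one S.2 (hB.1 hb), hb1⟩) (h.orderOf_rElem hk hx1)
              (Subgroup.mem_centralizer_iff.1 hxB b hb)
        have hRbot : (R : Subgroup W) = ⊥ :=
          (Subgroup.map_eq_bot_iff_of_injective _ W.subtype_injective).1 (le_bot_iff.1 hKbot)
        exact (R.ne_bot_of_dvd_card hpd) hRbot
    -- its centre
    set V := (Subgroup.center ↥W).map W.subtype with hV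
    haveI : Nontrivial W := (Subgroup.nontrivial_iff_ne_bot W).2 hW1
    haveI hcnt : Nontrivial (Subgroup.center ↥W) := IsPGroup.center_nontrivial hWq
    have hVq : IsPGroup q V := (hWq.to_subgroup _).map _
    have hVN : M ≤ Subgroup.normalizer (V : Set G) := by
      rw [hM, hV]
      exact Signalizer.normalizer_le_normalizer_char _
    have hVM : V ≤ M := by
      rw [hM, hV]
      exact (Subgroup.map_subtype_le _).trans Subgroup.le_normalizer
    have hVcomm : ∀ a ∈ V, ∀ b ∈ V, a * b = b * a := by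
      rintro _ ⟨a, ha, rfl⟩ _ ⟨b, -, rfl⟩
      rw [← map_mul, ← map_mul, Subgroup.mem_center_iff.1 ha b]
    haveI hVn : (V.subgroupOf M).Normal := (Subgroup.normal_subgroupOf_iff_le_normalizer hVM).2 hVN
    set ρ : ↥M →* MulAut ↥(V.subgroupOf M) := MulAut.conjNormal with hρ
    have hρval : ∀ (g : ↥M) (v : ↥(V.subgroupOf M)),
        (((ρ g v : ↥(V.subgroupOf M)) : ↥M) : G) = (g : G) * ((v : ↥M) : G) * (g : G)⁻¹ := by
      intro g v; rw [hρ, MulAut.conjNormal_apply]; rfl
    have hyM : y ∈ M := hE.normalizer_le hy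
    set A' := ((S : Subgroup G).subgroupOf M) with hA'
    have hcop : (Nat.card ↥(V.subgroupOf M)).Coprime (Nat.card A') := by
      obtain ⟨m, hm⟩ := IsPGroup.iff_card.1 (hVq.comap_of_injective M.subtype M.subtype_injective)
      obtain ⟨n, hn⟩ := IsPGroup.iff_card.1 (S.2.comap_of_injective M.subtype M.subtype_injective)
      have hm' : Nat.card ↥(V.subgroupOf M) = q ^ m := hm
      have hn' : Nat.card A' = 2 ^ n := hn
      rw [hm', hn']
      exact (h.cop2q.symm.pow_left m).pow_right n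
    have hfix := fixed_of_frobenius
      (fun v w => Subtype.ext (Subtype.ext (hVcomm _ v.2 _ w.2))) ρ A'
      (fun a ha b hb => Subtype.ext (h.comm_two S.2 ha hb)) (⟨y, hyM⟩ : ↥M) (r := r)
      (Subtype.ext (by rw [Subgroup.coe_pow, ← hyr]; exact pow_orderOf_eq_one y))
      (fun a ha => (Subgroup.mem_normalizer_iff.1 hy _).1 ha)
      (fun i hi hir a ha e => by
        by_contra ha1
        have ha2 : orderOf (a : G) = 2 :=
          invol_iff.2 ⟨h.sq_eq_one S.2 ha, fun e' => ha1 (Subtype.ext e')⟩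
        refine h.no_two_r ha2 (y := y ^ i) ?_ ?_
        · rw [Nat.Coprime.orderOf_pow, hyr]
          rw [hyr]
          exact (h.hr.coprime_iff_not_dvd).2 (Nat.not_dvd_of_pos_of_lt hi hir)
        · exact (congrArg Subtype.val e).symm)
      (fun v hv => by
        by_contra hv1
        have hv' := congrArg (fun w : ↥(V.subgroupOf M) => ((w : ↥M) : G)) hv
        rw [hρval] at hv'
        have hc : Commute y ((v : ↥M) : G) := mul_inv_eq_iff_eq_mul.1 hv'
        obtain ⟨k, hk⟩ := (IsPGroup.iff_orderOf.1 hVq) ⟨((v : ↥M) : G), Subgroup.mem_subgroupOf.1 v.2⟩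
        rw [Subgroup.orderOf_mk] at hk
        have hv1' : ((v : ↥M) : G) ≠ 1 := fun e => hv1 (Subtype.ext (Subtype.ext e))
        have hvq : orderOf ((v : ↥M) : G) = q := by
          have hk0 : k ≠ 0 := fun e => hv1' (orderOf_eq_one_iff.1 (by simpa [e] using hk))
          rcases h.ord ((v : ↥M) : G) with e | e | e | e | e
          · exact absurd (orderOf_eq_one_iff.1 e) hv1'
          · have := (hk ▸ dvd_pow_self q hk0 : q ∣ orderOf ((v : ↥M) : G))
            rw [e] at this
            exact absurd ((Nat.prime_dvd_prime_iff_eq h.hq Nat.prime_two).1 this) h.hq2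
          · exact e
          · have := (hk ▸ dvd_pow_self q hk0 : q ∣ orderOf ((v : ↥M) : G))
            rw [e] at this
            exact absurd ((Nat.prime_dvd_prime_iff_eq h.hq h.hr).1 this) h.hqr
          · exfalso
            have : 2 ∣ q ^ k := ⟨q, hk ▸ e⟩
            exact h.hq2 ((Nat.prime_dvd_prime_iff_eq Nat.prime_two h.hq).1
              (Nat.prime_two.dvd_of_dvd_pow this)).symm
        exact h.no_q_r hvq hyr hc.symm)
      h.hr.pos hcop
    -- `z ^ 2` centralises the centre
    have hcS : ∀ a ∈ (S : Subgroup G), ∀ v ∈ V, a * v * a⁻¹ = v := by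
      intro a ha v hv
      have := congrArg (fun w : ↥(V.subgroupOf M) => ((w : ↥M) : G))
        (hfix ⟨a, hE.le ha⟩ ha ⟨⟨v, hVM hv⟩, hv⟩)
      rwa [hρval] at this
    obtain ⟨⟨c, hc⟩, hc1⟩ := exists_ne (1 : Subgroup.center ↥W)
    have hcV : (c : G) ∈ V := ⟨c, hc, rfl⟩
    have hc1' : (c : G) ≠ 1 := fun e => hc1 (Subtype.ext (Subtype.ext e))
    obtain ⟨k, hk⟩ := (IsPGroup.iff_orderOf.1 hVq) ⟨_, hcV⟩
    rw [Subgroup.orderOf_mk] at hk
    have hk0 : k ≠ 0 := fun e => hc1' (orderOf_eq_one_iff.1 (by simpa [e] using hk))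
    set c' := (c : G) ^ q ^ (k - 1) with hc'def
    have hc'q : orderOf c' = q := by
      rw [hc'def, orderOf_pow_of_dvd (pow_ne_zero _ h.hq.ne_zero), hk, Nat.pow_div (by omega) h.hq.pos,
        show k - (k - 1) = 1 by omega, pow_one]
      rw [hk]; exact pow_dvd_pow q (Nat.sub_le k 1)
    have hc'V : c' ∈ V := pow_mem hcV _
    refine h.no_q_r hc'q hz2 ?_
    have h1 : s * c' * s⁻¹ = c' := hcS s hsS c' hc'V
    have h2 : (z * s * z⁻¹) * c' * (z * s * z⁻¹)⁻¹ = c' := by
      have hw : z⁻¹ * c' * z ∈ V := by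
        have := (Subgroup.mem_normalizer_iff.1 (inv_mem (hVN hzM)) c').1 hc'V
        rwa [inv_inv] at this
      calc z * s * z⁻¹ * c' * (z * s * z⁻¹)⁻¹ = z * (s * (z⁻¹ * c' * z) * s⁻¹) * z⁻¹ := by group
        _ = c' := by rw [hcS s hsS _ hw]; group
    rw [hzs] at h2
    have h3 : z ^ 2 * c' * (z ^ 2)⁻¹ = c' := by
      calc z ^ 2 * c' * (z ^ 2)⁻¹ = z ^ 2 * (s * c' * s⁻¹) * (z ^ 2)⁻¹ := by rw [h1]
        _ = z ^ 2 * s * c' * (z ^ 2 * s)⁻¹ := by group
        _ = c' := h2
    exact (mul_inv_eq_iff_eq_mul.1 h3).symm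

/-- **The mixed case does not occur.** -/
theorem Mix.elim [IsSimpleGroup G] (hna : ¬ IsMulCommutative G) : False := by
  classical
  haveI : Fact (Nat.Prime 2) := ⟨Nat.prime_two⟩
  haveI := Fact.mk h.hr
  obtain ⟨g₀, hg₀⟩ := h.wit2q
  have h2G : 2 ∣ Nat.card G := (Dvd.intro q hg₀.symm).trans (orderOf_dvd_natCard g₀)
  obtain ⟨t₀, ht₀⟩ := exists_invol (G := G) (even_iff_two_dvd.2 h2G)
  have h4 : 4 ∣ Nat.card G := by
    have := Classif.SmallOrderTools.four_dvd_moved (α := G) hna t₀
      (by rw [pow_two]; exact invol_mul_self ht₀)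
    have h0 : Nat.card {x : G // t₀ • x = x} = 0 := by
      rw [Nat.card_eq_zero]
      exact Or.inl ⟨fun x => invol_ne_one ht₀ (mul_eq_right.1 x.2)⟩
    rwa [h0, Nat.sub_zero] at this
  set S : Sylow 2 G := default
  set n := (Nat.card G).factorization 2 with hn
  have hScard : Nat.card (S : Subgroup G) = 2 ^ n := Sylow.card_eq_multiplicity S
  have hn2 : 2 ≤ n := (Nat.prime_two.pow_dvd_iff_le_factorization Nat.card_pos.ne').1 h4
  have hodd : Odd (Nat.card G / 2 ^ n) :=
    Nat.odd_iff.2 (Nat.two_dvd_ne_zero.1 (Nat.not_dvd_ordCompl Nat.prime_two Nat.card_pos.ne'))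
  have hGeq : 2 ^ n * (Nat.card G / 2 ^ n) = Nat.card G :=
    Nat.ordProj_mul_ordCompl_eq_self (Nat.card G) 2
  rcases Nat.lt_or_ge n 3 with hn3 | hn3
  · -- Sylow order four
    have e := h.eq_pow_mul (Dvd.intro_left _ hGeq) hodd
    rw [e, show n = 2 by omega, ← mul_assoc] at hGeq
    obtain ⟨φ⟩ := KleinThree.iso_alt_five hna h.hr h.hq
      (a := (Nat.card G / 2 ^ 2).factorization r) (b := (Nat.card G / 2 ^ 2).factorization q)
      (hGeq.symm.trans (by norm_num))
    have horder : ∀ g : ↥(alternatingGroup (Fin 5)), g ^ 2 = 1 ∨ g ^ 3 = 1 ∨ g ^ 5 = 1 := by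
      decide +kernel
    have hd : orderOf (φ g₀) = 2 * q := (MulEquiv.orderOf_eq φ g₀).trans hg₀
    have := h.three_le_q
    rcases horder (φ g₀) with e1 | e1 | e1 <;>
      have := Nat.le_of_dvd (by norm_num) (hd ▸ orderOf_dvd_of_pow_eq_one e1) <;> omega
  have h8 : 8 ≤ Nat.card (S : Subgroup G) := by
    rw [hScard]; exact (show (8 : ℕ) = 2 ^ 3 by norm_num) ▸ Nat.pow_le_pow_right two_pos hn3
  obtain ⟨M, hE⟩ := h.exists_emb S h8
  have hSE := hE.se
  have hS2 : Even (Nat.card (S : Subgroup G)) := by rw [hScard]; exact even_two.pow_of_ne_zero (by omega)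
  obtain ⟨⟨s, hsS⟩, hs'⟩ := exists_invol (G := (S : Subgroup G)) hS2
  have hs : orderOf s = 2 := by rw [← hs', Subgroup.orderOf_mk]
  have hsM : s ∈ M := hE.le hsS
  obtain ⟨u, hu, huM⟩ := exists_invol_notMem hSE hs hsM
  have hz := h.orderOf_mul_eq_r hSE hs hsM hu huM
  have hsz : s * (s * u) * s = (s * u)⁻¹ := invert_mul (invol_mul_self hs) (invol_mul_self hu)
  obtain ⟨m, hm, hcount⟩ := h.count hSE hs hsM hu huM rfl
  obtain ⟨l, hl⟩ := h.card_stab hSE hz hs hsz
  rw [hl] at hcount
  set P := Subgroup.centralizer ({s * u} : Set G) with hP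
  set c := Nat.card ↥(Subgroup.centralizer ({s} : Set G)) with hc
  -- the order of `C(s)`
  have hcdvd : c ∣ Nat.card G := Subgroup.card_subgroup_dvd_card _
  obtain ⟨a, γ, hca⟩ : ∃ a γ, c = 2 ^ a * q ^ γ := h.card_centralizer hs
  have hSc : 2 ^ n ∣ c := by
    rw [← hScard]
    exact Subgroup.card_dvd_of_le fun x hx => mem_centralizer_singleton_iff.2 (h.comm_two S.2 hx hsS)
  have han : a = n := by
    refine le_antisymm ?_ ?_
    · exact (Nat.prime_two.pow_dvd_iff_le_factorization Nat.card_pos.ne').1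
        ((Dvd.intro _ hca.symm).trans hcdvd)
    · exact (Nat.pow_dvd_pow_iff_le_right one_lt_two).1
        ((Nat.Coprime.pow n γ h.cop2q).dvd_of_dvd_mul_right (hca ▸ hSc))
  subst han
  have hγ : 1 ≤ γ := by
    obtain ⟨x, hx, hxs⟩ := h.exists_q_commute hs
    have hd := orderOf_dvd_natCard
      (⟨x, mem_centralizer_singleton_iff.2 hxs.eq.symm⟩ : Subgroup.centralizer ({s} : Set G))
    rw [Subgroup.orderOf_mk, hx, ← hc, hca] at hd
    by_contra hγ
    rw [show γ = 0 by omega, pow_zero, mul_one] at hd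
    exact h.hq2 ((Nat.prime_dvd_prime_iff_eq h.hq Nat.prime_two).1 (h.hq.dvd_of_dvd_pow hd))
  -- the Sylow subgroup `P`
  obtain ⟨R, hR⟩ := h.exists_sylow_eq hSE hz
  set B := (Nat.card G).factorization r with hB
  have hPcard : Nat.card P = r ^ B := by rw [hP, ← hR]; exact Sylow.card_eq_multiplicity R
  have hRp : IsPGroup r P := by rw [hP, ← hR]; exact R.2
  obtain ⟨k, hk⟩ := IsPGroup.iff_card.1 (hRp.to_le (inf_le_left : P ⊓ M ≤ P))
  have hkB : k < B := by
    have hlt : P ⊓ M < P := by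
      refine lt_of_le_of_ne inf_le_left fun e => huM ?_
      have hzP : s * u ∈ P := mem_centralizer_singleton_iff.2 rfl
      rw [← e] at hzP
      simpa using mul_mem (inv_mem hsM) hzP.2
    have := (Nat.pow_lt_pow_iff_right h.hr.one_lt).1 (hk ▸ hPcard ▸
      (lt_of_le_of_ne (Subgroup.card_le_of_le hlt.le)
        fun e => hlt.ne (Subgroup.eq_of_le_of_card_ge hlt.le e.ge)))
    exact this
  rw [hPcard, hk, hca] at hcount
  -- valuations
  set N := M.index with hN
  have hN0 : N ≠ 0 := Subgroup.index_ne_zero_of_finite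
  have hm0 : m ≠ 0 := fun e => Nat.card_pos.ne' (by rw [← hm, e, zero_mul] : Nat.card M = 0)
  have hMN : m * c * N = Nat.card G := by rw [hm, hN, Subgroup.card_mul_index]
  have hmN : Odd (m * N) := by
    refine Nat.not_even_iff_odd.1 fun he => ?_
    have hd : 2 ^ (n + 1) ∣ Nat.card G := by
      rw [pow_succ, ← hMN, mul_comm m c, mul_assoc]
      exact Nat.mul_dvd_mul hSc (even_iff_two_dvd.1 he)
    have := (Nat.prime_two.pow_dvd_iff_le_factorization Nat.card_pos.ne').1 hd
    omega
  have hmd : m ∣ Nat.card G := ⟨c * N, by rw [← hMN]; ring⟩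
  have hNd : N ∣ Nat.card G := Subgroup.index_dvd_card M
  have em := h.eq_pow_mul hmd (Nat.Odd.of_mul_left hmN)
  have eN := h.eq_pow_mul hNd (Nat.Odd.of_mul_right hmN)
  set i := m.factorization r
  set j := m.factorization q
  set i' := N.factorization r
  set a' := N.factorization q
  have hr2' : ¬ r ∣ 2 := fun hd => h.hr2 ((Nat.prime_dvd_prime_iff_eq h.hr Nat.prime_two).1 hd)
  have hrq : ¬ r ∣ q := fun hd => h.hqr ((Nat.prime_dvd_prime_iff_eq h.hr h.hq).1 hd).symm
  have hii : i + i' = B := by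
    have e : (m * c * N).factorization r = B := by rw [hMN]
    have hc0 : c.factorization r = 0 := by
      refine Nat.factorization_eq_zero_of_not_dvd fun hd => ?_
      rw [hca] at hd
      rcases h.hr.dvd_mul.1 hd with hd | hd
      · exact hr2' (h.hr.dvd_of_dvd_pow hd)
      · exact hrq (h.hr.dvd_of_dvd_pow hd)
    have hc00 : c ≠ 0 := Nat.card_pos.ne'
    rw [Nat.factorization_mul (mul_ne_zero hm0 hc00) hN0, Nat.factorization_mul hm0 hc00,
      Finsupp.add_apply, Finsupp.add_apply, hc0, add_zero] at e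
    exact e
  have hR1 : r ^ B - r ^ k = r ^ k * (r ^ (B - k) - 1) := by
    rw [Nat.mul_sub, ← pow_add, mul_one, Nat.add_sub_cancel' hkB.le]
  have hrsub : ∀ e : ℕ, 1 ≤ e → ¬ r ∣ r ^ e - 1 := by
    intro e he hd
    have h1 : r ∣ r ^ e := dvd_pow_self r (by omega)
    have h2 := Nat.dvd_sub h1 hd
    have hpos : 1 ≤ r ^ e := Nat.one_le_pow _ _ h.hr.pos
    rw [show r ^ e - (r ^ e - 1) = 1 by omega] at h2
    exact h.hr.ne_one (Nat.dvd_one.1 h2)
  rw [hR1] at hcount
  have hik : i ≤ k := by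
    by_contra hlt
    have hd : r ^ k * r ∣ 2 ^ n * q ^ γ * (r ^ k * (r ^ (B - k) - 1)) := by
      rw [← hcount, em, ← pow_succ]
      exact Dvd.dvd.mul_right (Dvd.dvd.mul_left
        (Dvd.dvd.mul_right (pow_dvd_pow r (by omega)) _) _) _
    rw [mul_left_comm, Nat.mul_dvd_mul_iff_left (pow_pos h.hr.pos k)] at hd
    rcases h.hr.dvd_mul.1 hd with hd | hd
    · rcases h.hr.dvd_mul.1 hd with hd | hd
      · exact hr2' (h.hr.dvd_of_dvd_pow hd)
      · exact hrq (h.hr.dvd_of_dvd_pow hd)
    · exact hrsub _ (by omega) hd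
  have hN1 : 1 ≤ N := Nat.one_le_iff_ne_zero.2 hN0
  have hki : k ≤ i := by
    by_contra hlt
    have hrN : r ∣ N := eN ▸ Dvd.dvd.mul_right (dvd_pow_self r (by omega)) _
    have hd : r ^ i * r ∣ r ^ i * ((N - 1) * q ^ j * (2 * q ^ l)) := by
      rw [show r ^ i * ((N - 1) * q ^ j * (2 * q ^ l)) = (N - 1) * (r ^ i * q ^ j) * (2 * q ^ l) by ring,
        ← em, hcount, ← pow_succ]
      exact Dvd.dvd.mul_left (Dvd.dvd.mul_right (pow_dvd_pow r (by omega)) _) _
    rw [Nat.mul_dvd_mul_iff_left (pow_pos h.hr.pos i)] at hd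
    rcases h.hr.dvd_mul.1 hd with hd | hd
    · rcases h.hr.dvd_mul.1 hd with hd | hd
      · have h2 := Nat.dvd_sub hrN hd
        rw [show N - (N - 1) = 1 by omega] at h2
        exact h.hr.ne_one (Nat.dvd_one.1 h2)
      · exact hrq (h.hr.dvd_of_dvd_pow hd)
    · rcases h.hr.dvd_mul.1 hd with hd | hd
      · exact hr2' hd
      · exact hrq (h.hr.dvd_of_dvd_pow hd)
  obtain rfl : k = i := le_antisymm hki hik
  -- the normaliser of `S` is free of elements of order `r`
  set NS := Subgroup.normalizer ((S : Subgroup G) : Set G) with hNS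
  have hNSr : ∀ y ∈ NS, orderOf y ≠ r := by
    intro y hy hyr
    have hd : r ∣ m * c := by
      rw [hm, ← hyr]
      have := orderOf_dvd_natCard (⟨y, hE.normalizer_le hy⟩ : M)
      rwa [Subgroup.orderOf_mk] at this
    rw [em, hca] at hd
    have hi0 : i ≠ 0 := by
      intro hi0
      rw [hi0, pow_zero, one_mul] at hd
      rcases h.hr.dvd_mul.1 hd with hd | hd
      · exact hrq (h.hr.dvd_of_dvd_pow hd)
      · rcases h.hr.dvd_mul.1 hd with hd | hd
        · exact hr2' (h.hr.dvd_of_dvd_pow hd)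
        · exact hrq (h.hr.dvd_of_dvd_pow hd)
    obtain ⟨x, hx⟩ := exists_prime_orderOf_dvd_card' (G := ↥(P ⊓ M)) r (hk ▸ dvd_pow_self r hi0)
    rw [← Subgroup.orderOf_coe] at hx
    exact h.no_r_normalizer h8 hE hs hsS hx x.2.2 (h.invert_all hz hs hsz x.2.1) hy hyr
  -- `N(S)` is transitive on the involutions of `S`
  have hS' : {t : G // ∃ k ∈ NS, k * s * k⁻¹ = t} ≃ {x : (S : Subgroup G) // x ≠ 1} :=
    { toFun := fun t => ⟨⟨t.1, by
          obtain ⟨k, hk, e⟩ := t.2
          exact e ▸ (Subgroup.mem_normalizer_iff.1 hk s).1 hsS⟩, fun e => by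
          obtain ⟨k, -, e'⟩ := t.2
          exact invol_ne_one hs (conj_eq_one_iff.1 (e'.trans (congrArg Subtype.val e)))⟩
      invFun := fun x => ⟨x.1.1, by
        haveI : IsMulCommutative (S : Subgroup G) :=
          ⟨⟨fun n b => Subtype.ext (h.comm_two S.2 n.2 b.2)⟩⟩
        have hx2 : orderOf (x.1 : G) = 2 :=
          invol_iff.2 ⟨h.sq_eq_one S.2 x.1.2, fun e => x.2 (Subtype.ext e)⟩
        obtain ⟨g, hg⟩ := isConj_iff.1 (StronglyEmbedded.isConj_involutions hSE hs hx2)
        have e : (g⁻¹)⁻¹ * s * g⁻¹ = (x.1 : G) := by rw [inv_inv, hg]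
        obtain ⟨w, hw, hw'⟩ := Sylow.conj_eq_normalizer_conj_of_mem S s g⁻¹ hsS (by rw [e]; exact x.1.2)
        exact ⟨w⁻¹, inv_mem hw, by rw [inv_inv, ← hw', e]⟩⟩
      left_inv := fun _ => rfl
      right_inv := fun _ => rfl }
  have hcardS : Nat.card {x : (S : Subgroup G) // x ≠ 1} = 2 ^ n - 1 := by
    have := Fintype.ofFinite (S : Subgroup G)
    rw [Nat.card_eq_fintype_card, Fintype.card_subtype_compl, Fintype.card_subtype_eq,
      ← Nat.card_eq_fintype_card, hScard]
  have hdvd : 2 ^ n - 1 ∣ Nat.card NS := by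
    have := card_conj_mul NS s
    rw [Nat.card_congr hS', hcardS] at this
    exact Dvd.intro _ this
  have h2a : 8 ≤ 2 ^ n := hScard ▸ h8
  have hoddS : Odd (2 ^ n - 1) :=
    Nat.Even.sub_odd (by omega) (even_two.pow_of_ne_zero (by omega)) odd_one
  have eS := h.eq_pow_mul (hdvd.trans (Subgroup.card_subgroup_dvd_card NS)) hoddS
  have hS0 : (2 ^ n - 1).factorization r = 0 := by
    refine Nat.factorization_eq_zero_of_not_dvd fun hd => ?_
    obtain ⟨y, hy⟩ := exists_prime_orderOf_dvd_card' (G := NS) r (hd.trans hdvd)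
    rw [← Subgroup.orderOf_coe] at hy
    exact hNSr y y.2 hy
  rw [hS0, pow_zero, one_mul] at eS
  have hq1 := pow_eq_mersenne (by omega) h.odd_q (show q ^ (2 ^ n - 1).factorization q + 1 = 2 ^ n by omega)
  rw [hq1, pow_one] at eS
  -- the final equation
  have hRbig : 3 ≤ r ^ (B - i) :=
    h.three_le_r.trans (Nat.le_self_pow (by omega) r)
  refine final_arith (a := a') (j := j + l) (γ := γ) hn3 h.hq (by omega) hRbig ?_
  rw [em, eN, show i' = B - i by omega] at hcount
  refine Nat.eq_of_mul_eq_mul_left (pow_pos h.hr.pos i) ?_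
  calc r ^ i * ((r ^ (B - i) * q ^ a' - 1) * (2 * q ^ (j + l)))
      = (r ^ (B - i) * q ^ a' - 1) * (r ^ i * q ^ j) * (2 * q ^ l) := by ring
    _ = 2 ^ n * q ^ γ * (r ^ i * (r ^ (B - i) - 1)) := hcount
    _ = r ^ i * (2 ^ n * q ^ γ * (r ^ (B - i) - 1)) := by ring

end Cfsg.Agent.Lib.AutOrbits5
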