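import Cfsg.Agent.Lib.AutOrbits5.Mixed
import Cfsg.Agent.Lib.OddOrder.FeitThompson

/-!
# At most five orbits of automorphisms: the dichotomy

The number of element orders is at most the number of orbits.  Either every involution centraliser is a
`2`-group, or we are in the mixed case, which is impossible.
-/

set_option autoImplicit false

namespace Cfsg.Agent.Lib.AutOrbits5

open Subgroup

universe u

variable {G : Type u} [Group G] [Finite G]

/-- Every set of element orders has at most as many members as there are orbits. -/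
theorem card_orders_le {d : ℕ} (hd : Nat.card (MulAction.orbitRel.Quotient (MulAut G) G) ≤ d) (L : Finset ℕ)
    (hL : ∀ x ∈ L, ∃ g : G, orderOf g = x) : L.card ≤ d := by
  classical
  haveI : Finite (MulAction.orbitRel.Quotient (MulAut G) G) :=
    Quotient.finite _
  haveI := Fintype.ofFinite (MulAction.orbitRel.Quotient (MulAut G) G)
  let f : MulAction.orbitRel.Quotient (MulAut G) G → ℕ := fun x =>
    Quotient.liftOn' x orderOf fun a b hab => by
      obtain ⟨φ, rfl⟩ := hab
      exact MulEquiv.orderOf_eq φ b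
  refine le_trans (le_trans (Finset.card_le_card (t := Finset.univ.image f) fun x hx => ?_)
    Finset.card_image_le) (by rw [Finset.card_univ, ← Nat.card_eq_fintype_card]; exact hd)
  obtain ⟨g, hg⟩ := hL x hx
  exact Finset.mem_image.2 ⟨Quotient.mk'' g, Finset.mem_univ _, hg⟩

/-- With exactly five orders and at most five orbits, elements of one order lie in one orbit. -/
theorem homog_of_five (hd : Nat.card (MulAction.orbitRel.Quotient (MulAut G) G) ≤ 5) (L : Finset ℕ)
    (hL : ∀ x ∈ L, ∃ g : G, orderOf g = x) (h5 : L.card = 5) :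
    (∀ g : G, orderOf g ∈ L) ∧ ∀ x y : G, orderOf x = orderOf y → ∃ φ : MulAut G, φ x = y := by
  classical
  haveI : Finite (MulAction.orbitRel.Quotient (MulAut G) G) :=
    Quotient.finite _
  haveI := Fintype.ofFinite (MulAction.orbitRel.Quotient (MulAut G) G)
  let f : MulAction.orbitRel.Quotient (MulAut G) G → ℕ := fun x =>
    Quotient.liftOn' x orderOf fun a b hab => by
      obtain ⟨φ, rfl⟩ := hab
      exact MulEquiv.orderOf_eq φ b
  have hsub : L ⊆ Finset.univ.image f := fun x hx => by
    obtain ⟨g, hg⟩ := hL x hx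
    exact Finset.mem_image.2 ⟨Quotient.mk'' g, Finset.mem_univ _, hg⟩
  have hu : (Finset.univ : Finset (MulAction.orbitRel.Quotient (MulAut G) G)).card ≤ 5 := by
    rw [Finset.card_univ, ← Nat.card_eq_fintype_card]; exact hd
  have h1 := Finset.card_le_card hsub
  have h2 := Finset.card_image_le (f := f) (s := (Finset.univ : Finset (MulAction.orbitRel.Quotient (MulAut G) G)))
  have heq : L = Finset.univ.image f := Finset.eq_of_subset_of_card_le hsub (by omega)
  have hinj : Set.InjOn f (Finset.univ : Finset (MulAction.orbitRel.Quotient (MulAut G) G)) :=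
    Finset.card_image_iff.1 (by omega)
  refine ⟨fun g => heq ▸ Finset.mem_image.2 ⟨Quotient.mk'' g, Finset.mem_univ _, rfl⟩, fun x y hxy => ?_⟩
  have := hinj (Finset.mem_coe.2 (Finset.mem_univ (Quotient.mk'' y)))
    (Finset.mem_coe.2 (Finset.mem_univ (Quotient.mk'' x))) (show f _ = f _ from hxy.symm)
  exact Quotient.exact' this

/-- A nonabelian simple group has at least three prime divisors, `2` among them. -/
theorem exists_three_primes [IsSimpleGroup G] (hna : ¬ IsMulCommutative G) {p : ℕ} (hp : p.Prime) :
    2 ∣ Nat.card G ∧ ∃ r : ℕ, r.Prime ∧ r ∣ Nat.card G ∧ r ≠ 2 ∧ r ≠ p := by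
  have hsolv : ¬ Group.IsSolvable G := fun h => hna ⟨⟨IsSimpleGroup.comm_iff_isSolvable.2 h⟩⟩
  refine ⟨?_, ?_⟩
  · by_contra h2
    exact hsolv (OddOrder.FeitThompson.isSolvable_of_odd_card
      (Nat.odd_iff.2 (Nat.two_dvd_ne_zero.1 h2)))
  · by_contra hne
    push Not at hne
    obtain ⟨a, m, hm, e⟩ := Nat.exists_eq_two_pow_mul_odd (n := Nat.card G) Nat.card_pos.ne'
    have hm' : m = p ^ m.primeFactorsList.length := Nat.eq_prime_pow_of_unique_prime_dvd hm.pos.ne'
      fun {d} hd hdm => by
        by_contra hdp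
        refine hdp (hne d hd (e ▸ hdm.mul_left _) fun h2 => ?_)
        subst h2
        exact Nat.not_even_iff_odd.2 hm (even_iff_two_dvd.2 hdm)
    exact hsolv (Induced.Burnside.isSolvable_of_card_eq 2 p a _ Nat.prime_two hp
      (by rw [e]; exact congrArg _ hm'))

/-- An element of prime order for each prime divisor. -/
theorem exists_order_prime {p : ℕ} (hp : p.Prime) (hd : p ∣ Nat.card G) : ∃ g : G, orderOf g = p := by
  haveI := Fact.mk hp
  exact exists_prime_orderOf_dvd_card' p hd

/-- **The dichotomy**: only the centraliser condition remains. -/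
theorem isPGroup_centralizer [IsSimpleGroup G] (hna : ¬ IsMulCommutative G)
    (h5 : Nat.card (MulAction.orbitRel.Quotient (MulAut G) G) ≤ 5) {t : G} (ht : orderOf t = 2) :
    IsPGroup 2 (Subgroup.centralizer ({t} : Set G)) := by
  classical
  haveI : Fact (Nat.Prime 2) := ⟨Nat.prime_two⟩
  rw [IsPGroup.iff_card]
  refine ⟨_, Nat.eq_prime_pow_of_unique_prime_dvd Nat.card_pos.ne' fun {q} hq hqd => ?_⟩
  by_contra hq2
  haveI := Fact.mk hq
  obtain ⟨x, hx⟩ := exists_prime_orderOf_dvd_card' (G := Subgroup.centralizer ({t} : Set G)) q hqd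
  rw [← Subgroup.orderOf_coe] at hx
  have hc : Commute t (x : G) := (mem_centralizer_singleton_iff.1 x.2).symm
  have hcop : Nat.Coprime 2 q := (Nat.coprime_primes Nat.prime_two hq).2 (Ne.symm hq2)
  have h2q : orderOf (t * x) = 2 * q := by
    rw [hc.orderOf_mul_eq_mul_orderOf_of_coprime (by rw [ht, hx]; exact hcop), ht, hx]
  obtain ⟨-, r, hr, hrd, hr2, hrq⟩ := exists_three_primes hna hq
  obtain ⟨y, hy⟩ := exists_order_prime hr hrd
  have h3q : 3 ≤ q := by have := hq.two_le; omega
  have h3r : 3 ≤ r := by have := hr.two_le; omega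
  have hn1 : ∀ b : ℕ, r = 2 * b → False := fun b e => by
    rcases hr.eq_two_or_odd' with h | h
    · exact hr2 h
    · exact Nat.not_even_iff_odd.2 h ⟨b, by omega⟩
  have hcard : ({1, 2, q, r, 2 * q} : Finset ℕ).card = 5 := by
    rw [Finset.card_insert_of_notMem, Finset.card_insert_of_notMem, Finset.card_insert_of_notMem,
      Finset.card_insert_of_notMem, Finset.card_singleton]
    · simp only [Finset.mem_singleton]; exact fun e => hn1 q e
    · simp only [Finset.mem_insert, Finset.mem_singleton, not_or]
      exact ⟨hrq.symm, by omega⟩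
    · simp only [Finset.mem_insert, Finset.mem_singleton, not_or]
      exact ⟨by omega, by omega, by omega⟩
    · simp only [Finset.mem_insert, Finset.mem_singleton, not_or]
      exact ⟨by omega, by omega, by omega, by omega⟩
  obtain ⟨hord, hom⟩ := homog_of_five h5 {1, 2, q, r, 2 * q} (fun b hb => by
    simp only [Finset.mem_insert, Finset.mem_singleton] at hb
    rcases hb with rfl | rfl | rfl | rfl | rfl
    · exact ⟨1, orderOf_one⟩
    · exact ⟨t, ht⟩
    · exact ⟨x, hx⟩
    · exact ⟨y, hy⟩
    · exact ⟨_, h2q⟩) hcard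
  have hM : Mix G q r :=
    { hq := hq, hr := hr, hq2 := hq2, hr2 := hr2, hqr := hrq.symm
      ord := fun g => by simpa using hord g
      homog := hom, wit2q := ⟨_, h2q⟩, witr := ⟨y, hy⟩ }
  exact hM.elim hna

end Cfsg.Agent.Lib.AutOrbits5
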