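import Cfsg.Agent.Lib.AutOrbits5.Basic
import Cfsg.Agent.Lib.Involutions.StronglyEmbedded

/-!
# The elements of order `r` in the mixed case with a strongly embedded subgroup

The product of an involution inside and one outside has order `r`; hence the centraliser of an element of
order `r` is an abelian Sylow subgroup inverted by an involution.
-/

set_option autoImplicit false

namespace Cfsg.Agent.Lib.AutOrbits5

open Subgroup Cfsg
open Cfsg.Agent.Lib.Involutions.Basic
open Cfsg.Agent.Lib.Involutions

variable {G : Type*} [Group G] [Finite G] {q r : ℕ} (h : Mix G q r)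
include h

variable {M : Subgroup G} (hSE : Cfsg.IsStronglyEmbedded M)

include hSE in
theorem Mix.orderOf_mul_eq_r {s u : G} (hs : orderOf s = 2) (hsM : s ∈ M) (hu : orderOf u = 2)
    (huM : u ∉ M) : orderOf (s * u) = r := by
  have hinv := pair_inverts hs hu
  have hne : s * u ≠ 1 := by
    intro e
    apply huM
    rw [← invol_inv hs] at e
    exact inv_mul_eq_one.1 e ▸ hsM
  have hodd : ¬ Even (orderOf (s * u)) := by
    intro he
    obtain ⟨hz, hzs, hzu⟩ := central_invol hs hu he
    have hzM := StronglyEmbedded.centralizer_le hSE hs hsM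
      (mem_centralizer_singleton_iff.2 hzs.eq)
    exact huM (StronglyEmbedded.centralizer_le hSE hz hzM
      (mem_centralizer_singleton_iff.2 hzu.eq.symm))
  rcases h.ord (s * u) with e | e | e | e | e
  · exact absurd (orderOf_eq_one_iff.1 e) hne
  · exact absurd (e ▸ even_two) hodd
  · exfalso
    set C := Subgroup.centralizer ({s * u} : Set G) with hC
    obtain ⟨t, ht, htc⟩ := h.exists_invol_commute e
    have htC : t ∈ C := mem_centralizer_singleton_iff.2 htc.eq
    have hCe : Even (Nat.card C) := by
      refine even_iff_two_dvd.2 ?_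
      have := orderOf_dvd_natCard (⟨t, htC⟩ : C)
      rwa [Subgroup.orderOf_mk, ht] at this
    have hxs : s * (s * u) * s = (s * u)⁻¹ := invert_mul (invol_mul_self hs) (invol_mul_self hu)
    have hmem : ∀ a : C, s * (a : G) * s⁻¹ ∈ C := by
      intro a
      have ha : (a : G) * (s * u) = s * u * a := mem_centralizer_singleton_iff.1 a.2
      have ha' : (a : G) * (s * u)⁻¹ = (s * u)⁻¹ * a := (Commute.inv_right ha).eq
      refine mem_centralizer_singleton_iff.2 ?_
      rw [invol_inv hs]
      calc s * (a : G) * s * (s * u) = s * (a : G) * (s * (s * u) * s) * s := by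
            simp only [mul_assoc, invol_mul_self hs, mul_one]
        _ = s * ((a : G) * (s * u)⁻¹) * s := by rw [hxs, ← mul_assoc s]
        _ = s * ((s * u)⁻¹ * a) * s := by rw [ha']
        _ = s * (s * (s * u) * s * a) * s := by rw [hxs]
        _ = s * u * (s * a * s) := by
            simp only [← mul_assoc, invol_mul_self hs, one_mul]
    let f : {a : C // orderOf a = 2} → {a : C // orderOf a = 2} := fun a =>
      ⟨⟨s * (a.1 : G) * s⁻¹, hmem a.1⟩, by
        rw [Subgroup.orderOf_mk, orderOf_conj_eq, Subgroup.orderOf_coe, a.2]⟩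
    obtain ⟨⟨⟨v, hvC⟩, hv⟩, hfix⟩ := exists_fixed_of_odd f (fun a => by
      apply Subtype.ext; apply Subtype.ext
      show s * (s * (a.1 : G) * s⁻¹) * s⁻¹ = a.1
      rw [invol_inv hs]
      simp only [mul_assoc, invol_mul_self hs, mul_one]
      rw [← mul_assoc, invol_mul_self hs, one_mul]) (odd_card_invol hCe)
    rw [Subgroup.orderOf_mk] at hv
    have hsv : s * v * s⁻¹ = v := congrArg (fun a => ((a.1 : C) : G)) hfix
    have hvM : v ∈ M := StronglyEmbedded.centralizer_le hSE hs hsM
      (mem_centralizer_singleton_iff.2 (mul_inv_eq_iff_eq_mul.1 hsv).symm)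
    have hxM : s * u ∈ M := StronglyEmbedded.centralizer_le hSE hv hvM
      (mem_centralizer_singleton_iff.2 (mem_centralizer_singleton_iff.1 hvC).symm)
    exact huM (by simpa using mul_mem (inv_mem hsM) hxM)
  · exact e
  · exact absurd (e ▸ even_two_mul q) hodd

omit h in
include hSE in
theorem exists_invol_notMem {s : G} (hs : orderOf s = 2) (hsM : s ∈ M) :
    ∃ u : G, orderOf u = 2 ∧ u ∉ M := by
  obtain ⟨g, -, hg⟩ := SetLike.exists_of_lt (lt_top_iff_ne_top.2 hSE.1)
  exact ⟨g * s * g⁻¹, (orderOf_conj_eq g s).trans hs,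
    fun hm => hg (StronglyEmbedded.mem_of_conj_mem hSE hs hsM hm)⟩

omit h in
include hSE in
theorem exists_invol_mem : ∃ s : G, orderOf s = 2 ∧ s ∈ M := by
  obtain ⟨t, ht⟩ := exists_invol (G := M) hSE.2.1
  exact ⟨t, by rw [Subgroup.orderOf_coe]; exact ht, t.2⟩

include hSE in
/-- Every element of order `r` is inverted by an involution. -/
theorem Mix.exists_inverter {z : G} (hz : orderOf z = r) :
    ∃ v : G, orderOf v = 2 ∧ v * z * v = z⁻¹ := by
  obtain ⟨s, hs, hsM⟩ := exists_invol_mem hSE
  obtain ⟨u, hu, huM⟩ := exists_invol_notMem hSE hs hsM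
  obtain ⟨φ, hφ⟩ := h.homog (s * u) z ((h.orderOf_mul_eq_r hSE hs hsM hu huM).trans hz.symm)
  refine ⟨φ s, (MulEquiv.orderOf_eq φ s).trans hs, ?_⟩
  rw [← hφ, ← map_mul, ← map_mul, ← map_inv, invert_mul (invol_mul_self hs) (invol_mul_self hu)]

/-- The elements of the centraliser of an element of order `r`. -/
theorem Mix.centralizer_cases {z w : G} (hz : orderOf z = r)
    (hw : w ∈ Subgroup.centralizer ({z} : Set G)) : w = 1 ∨ orderOf w = r := by
  have hc : Commute w z := mem_centralizer_singleton_iff.1 hw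
  rcases h.ord w with e | e | e | e | e
  · exact Or.inl (orderOf_eq_one_iff.1 e)
  · exact (h.no_two_r e hz hc).elim
  · exact (h.no_q_r e hz hc).elim
  · exact Or.inr e
  · refine (h.no_two_r (t := w ^ q) ?_ hz (hc.pow_left q)).elim
    rw [orderOf_pow' w h.hq.pos.ne', e, Nat.gcd_mul_left_left, Nat.mul_div_cancel _ h.hq.pos]

/-- An involution inverting `z` of order `r` inverts all of `C(z)`. -/
theorem Mix.invert_all {z v : G} (hz : orderOf z = r) (hv : orderOf v = 2) (hvz : v * z * v = z⁻¹)
    {w : G} (hw : w ∈ Subgroup.centralizer ({z} : Set G)) : v * w * v = w⁻¹ := by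
  have hvv := invol_mul_self hv
  set C := Subgroup.centralizer ({z} : Set G) with hC
  have hmem : ∀ a : G, a ∈ C → v * a * v ∈ C := by
    intro a ha
    have ha' : a * z⁻¹ = z⁻¹ * a := (Commute.inv_right (mem_centralizer_singleton_iff.1 ha)).eq
    rw [hC, mem_centralizer_singleton_iff]
    calc v * a * v * z = v * a * (v * z * v) * v := by
          simp only [mul_assoc, hvv, mul_one]
      _ = v * (a * z⁻¹) * v := by rw [hvz, ← mul_assoc v]
      _ = v * (z⁻¹ * a) * v := by rw [ha']
      _ = v * (v * z * v * a) * v := by rw [hvz]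
      _ = z * (v * a * v) := by simp only [← mul_assoc, hvv, one_mul]
  let f : C → C := fun a => ⟨(a : G)⁻¹ * (v * a * v), mul_mem (inv_mem a.2) (hmem a a.2)⟩
  have hinj : Function.Injective f := by
    intro a b e
    have e' : (a : G)⁻¹ * (v * a * v) = (b : G)⁻¹ * (v * b * v) := congrArg Subtype.val e
    have hfix : v * ((b : G) * (a : G)⁻¹) * v = (b : G) * (a : G)⁻¹ := by
      have ea : v * (a : G) * v = a * ((b : G)⁻¹ * (v * b * v)) := by rw [← e', mul_inv_cancel_left]
      calc v * ((b : G) * (a : G)⁻¹) * v = (v * b * v) * (v * (a : G) * v)⁻¹ := by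
            rw [mul_inv_rev, mul_inv_rev, invol_inv hv]
            simp only [mul_assoc]
            rw [← mul_assoc v v, hvv, one_mul]
        _ = (b : G) * (a : G)⁻¹ := by rw [ea]; group
    by_contra hab
    rcases h.centralizer_cases hz (mul_mem b.2 (inv_mem a.2)) with e1 | e1
    · exact hab (Subtype.ext (mul_inv_eq_one.1 e1).symm)
    · refine h.no_two_r hv e1 ?_
      unfold Commute SemiconjBy
      calc v * ((b : G) * (a : G)⁻¹) = v * ((b : G) * (a : G)⁻¹) * v * v := by
            rw [mul_assoc (v * _) v v, hvv, mul_one]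
        _ = (b : G) * (a : G)⁻¹ * v := by rw [hfix]
  obtain ⟨⟨a, ha⟩, he⟩ := (Finite.injective_iff_surjective.1 hinj) ⟨w, hw⟩
  have e' : a⁻¹ * (v * a * v) = w := congrArg Subtype.val he
  rw [← e', mul_inv_rev, mul_inv_rev, mul_inv_rev, inv_inv, invol_inv hv]
  simp only [mul_assoc, hvv, mul_one]

include hSE in
/-- The centraliser of an element of order `r` is abelian. -/
theorem Mix.centralizer_comm {z a b : G} (hz : orderOf z = r)
    (ha : a ∈ Subgroup.centralizer ({z} : Set G)) (hb : b ∈ Subgroup.centralizer ({z} : Set G)) :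
    a * b = b * a := by
  obtain ⟨v, hv, hvz⟩ := h.exists_inverter hSE hz
  have e := h.invert_all hz hv hvz (mul_mem ha hb)
  rw [mul_inv_rev, ← h.invert_all hz hv hvz ha, ← h.invert_all hz hv hvz hb] at e
  have e2 : v * (a * b) * v = v * (b * a) * v := by
    rw [e]
    simp only [mul_assoc]
    rw [← mul_assoc v v, invol_mul_self hv, one_mul]
  simpa using e2

include hSE in
/-- The centraliser is the same for all its nontrivial elements. -/
theorem Mix.centralizer_eq {z w : G} (hz : orderOf z = r)
    (hw : w ∈ Subgroup.centralizer ({z} : Set G)) (hw1 : w ≠ 1) :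
    Subgroup.centralizer ({w} : Set G) = Subgroup.centralizer ({z} : Set G) := by
  have hwr := (h.centralizer_cases hz hw).resolve_left hw1
  have hzw : z ∈ Subgroup.centralizer ({w} : Set G) :=
    mem_centralizer_singleton_iff.2 (mem_centralizer_singleton_iff.1 hw).symm
  refine le_antisymm (fun x hx => ?_) (fun x hx => ?_)
  · exact mem_centralizer_singleton_iff.2 (h.centralizer_comm hSE hwr hx hzw)
  · exact mem_centralizer_singleton_iff.2 (h.centralizer_comm hSE hz hx hw)

include hSE in
/-- The centraliser of an element of order `r` is a Sylow subgroup. -/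
theorem Mix.exists_sylow_eq {z : G} (hz : orderOf z = r) :
    ∃ P : Sylow r G, (P : Subgroup G) = Subgroup.centralizer ({z} : Set G) := by
  haveI := Fact.mk h.hr
  have hp : IsPGroup r (Subgroup.centralizer ({z} : Set G)) := by
    refine IsPGroup.iff_orderOf.2 fun w => ?_
    rcases h.centralizer_cases hz w.2 with e | e
    · exact ⟨0, by rw [← Subgroup.orderOf_coe, e, orderOf_one, pow_zero]⟩
    · exact ⟨1, by rw [← Subgroup.orderOf_coe, e, pow_one]⟩
  obtain ⟨Q, hQ⟩ := hp.exists_le_sylow
  refine ⟨Q, le_antisymm ?_ hQ⟩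
  have hzQ : z ∈ (Q : Subgroup G) := hQ (mem_centralizer_singleton_iff.2 rfl)
  haveI : Nontrivial (Q : Subgroup G) := Subgroup.nontrivial_iff_exists_ne_one _ |>.2
    ⟨z, hzQ, fun e => h.hr.ne_one (by rw [← hz, e, orderOf_one])⟩
  haveI := IsPGroup.center_nontrivial Q.2
  obtain ⟨⟨c, hc⟩, hc1⟩ := exists_ne (1 : Subgroup.center (Q : Subgroup G))
  have hcomm : ∀ x ∈ (Q : Subgroup G), x * (c : G) = (c : G) * x := fun x hx =>
    congrArg Subtype.val (Subgroup.mem_center_iff.1 hc ⟨x, hx⟩)
  have hcz : (c : G) ∈ Subgroup.centralizer ({z} : Set G) :=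
    mem_centralizer_singleton_iff.2 (hcomm z hzQ).symm
  have hc1' : (c : G) ≠ 1 := fun e => hc1 (Subtype.ext (Subtype.ext e))
  rw [← h.centralizer_eq hSE hz hcz hc1']
  exact fun x hx => mem_centralizer_singleton_iff.2 (hcomm x hx)

end Cfsg.Agent.Lib.AutOrbits5
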